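import Groth.Agent.GIT.K690.Orbits

/-!
# Equivariant algebra maps and orbit maps

`IsEquiv φ`: the algebra map `φ` is compatible with the coactions.
-/

set_option autoImplicit false
set_option linter.unusedSectionVars false

universe u v w w'

open TensorProduct HopfRep GLin

namespace K765.Basic

open Groth.Agent.Books.ComodBasic Groth.Agent.Books.ComodHom Groth.Agent.Books.ComodInv

section CommRing

variable {k : Type u} [CommRing k] (A : Type v) [CommRing A] [Bialgebra k A]
  {S : Type w} [CommRing S] [Algebra k S] [HopfRep.Comod k A S]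
  {R : Type w'} [CommRing R] [Algebra k R] [HopfRep.Comod k A R]

/-- The algebra map `φ` is compatible with the coactions. -/
def IsEquiv (φ : S →ₐ[k] R) : Prop :=
  ∀ s : S, Comod.coact (k := k) (A := A) (φ s) =
    Algebra.TensorProduct.map φ (AlgHom.id k A) (Comod.coact (k := k) (A := A) s)

variable {A}

lemma map_id_eq_rTensor (φ : S →ₐ[k] R) (z : S ⊗[k] A) :
    Algebra.TensorProduct.map φ (AlgHom.id k A) z = φ.toLinearMap.rTensor A z := rfl

variable [IsCoactAlg k A S] [IsCoactAlg k A R]

/-- The orbit map of the image point. -/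
lemma orbitHom_comp {φ : S →ₐ[k] R} (hφ : IsEquiv A φ) (x : R →ₐ[k] k) :
    orbitHom k A (x.comp φ) = (orbitHom k A x).comp φ := by
  apply AlgHom.ext
  intro s
  rw [AlgHom.comp_apply, K690.Orbits.orbitHom_apply, K690.Orbits.orbitHom_apply, hφ s,
    map_id_eq_rTensor]
  rw [← LinearMap.comp_apply (x.toLinearMap.rTensor A) (φ.toLinearMap.rTensor A),
    ← LinearMap.rTensor_comp]
  rfl

/-- Moving a point commutes with equivariant maps. -/
lemma actPt_comp {φ : S →ₐ[k] R} (hφ : IsEquiv A φ) (g : A →ₐ[k] k) (x : R →ₐ[k] k) :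
    actPt k g (x.comp φ) = (actPt k g x).comp φ := by
  rw [actPt, orbitHom_comp hφ]
  rfl

lemma orbitHom_of_mem_invariants {f : R} (hf : f ∈ invariants k A R) (x : R →ₐ[k] k) :
    orbitHom k A x f = algebraMap k A (x f) := by
  rw [mem_invariants_iff] at hf
  rw [K690.Orbits.orbitHom_apply, hf]
  simp [Algebra.algebraMap_eq_smul_one]

lemma actPt_of_mem_invariants {f : R} (hf : f ∈ invariants k A R) (g : A →ₐ[k] k)
    (x : R →ₐ[k] k) : actPt k g x f = x f := by
  rw [actPt, AlgHom.comp_apply, orbitHom_of_mem_invariants hf, AlgHom.commutes]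
  rfl

lemma IsEquiv.map_mem_invariants {φ : S →ₐ[k] R} (hφ : IsEquiv A φ) {f : S}
    (hf : f ∈ invariants k A S) : φ f ∈ invariants k A R := by
  rw [mem_invariants_iff] at hf ⊢
  rw [hφ, hf]
  simp

end CommRing

section Field

variable {k : Type u} [Field k] {A : Type v} [CommRing A] [Bialgebra k A]
  {S : Type w} [CommRing S] [Algebra k S] [HopfRep.Comod k A S]
  {R : Type w'} [CommRing R] [Algebra k R] [HopfRep.Comod k A R]

lemma isEquiv_iff (φ : S →ₐ[k] R) : IsEquiv A φ ↔ IsComodHom k A φ.toLinearMap := by
  constructor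
  · intro h s
    exact h s
  · intro h s
    exact h s

lemma IsEquiv.isComodHom {φ : S →ₐ[k] R} (h : IsEquiv A φ) : IsComodHom k A φ.toLinearMap :=
  (isEquiv_iff φ).1 h

end Field

section Topology

/-- Closedness of the image of a morphism of affine schemes into a closed subscheme. -/
lemma isClosed_range_comap_comp_iff {B : Type*} {C : Type*} {D : Type*} [CommRing B] [CommRing C]
    [CommRing D] (f : B →+* C) (hf : Function.Surjective f) (g : C →+* D) :
    IsClosed (Set.range (PrimeSpectrum.comap (g.comp f))) ↔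
      IsClosed (Set.range (PrimeSpectrum.comap g)) := by
  have h1 : Set.range (PrimeSpectrum.comap (g.comp f)) =
      PrimeSpectrum.comap f '' Set.range (PrimeSpectrum.comap g) := by
    rw [← Set.range_comp, PrimeSpectrum.comap_comp]
  rw [h1]
  exact ((PrimeSpectrum.isClosedEmbedding_comap_of_surjective _ f hf).isClosed_iff_image_isClosed).symm

end Topology

end K765.Basic
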