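import Groth.Agent.InvQ.K701.Orbit3
import Groth.Agent.GLin.K765.Basic

/-!
# Closed orbits: on points and in the prime spectrum

* `isClosedOrbit_iff_closedOrb`: over an algebraically closed field the orbit of a rational point is
  closed in the prime spectrum iff it is closed on rational points;
* `isClosedOrbit_iff_of_finite`: closed orbits and finite equivariant morphisms.
-/

set_option autoImplicit false
set_option linter.unusedSectionVars false

universe u v w

open TensorProduct HopfRep GLin

namespace K765.Closed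

open Groth.Agent.Books.ComodBasic Groth.Agent.Books.ComodHom Groth.Agent.Books.ComodInv
open Groth.Agent.Books K701.Basic K701.Orbit K701.Orbit2 K701.Orbit3 K765.Basic PrimeSpectrum

section

variable {k : Type u} [Field k] [IsAlgClosed k] {A : Type v} [CommRing A] [HopfAlgebra k A]
  [Algebra.FiniteType k A]
variable {R : Type w} [CommRing R] [Algebra k R] [Comod k A R] [IsCoactAlg k A R]
  [Algebra.FiniteType k R]

theorem isClosedOrbit_of_closedOrb {x : R →ₐ[k] k} (h : ClosedOrb A x) : IsClosedOrbit k A x := by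
  have hN : IsNoetherianRing R := Algebra.FiniteType.isNoetherianRing k R
  have hJ : IsJacobsonRing R := isJacobsonRing_of_finiteType (A := k) (B := R)
  have hft : (orbitHom k A x).toRingHom.FiniteType := by
    have h1 : ((orbitHom k A x).toRingHom.comp (algebraMap k R)).FiniteType := by
      have h2 : (orbitHom k A x).toRingHom.comp (algebraMap k R) = algebraMap k A :=
        (orbitHom k A x).comp_algebraMap
      rw [h2]
      exact (RingHom.finiteType_algebraMap).mpr inferInstance
    exact RingHom.FiniteType.of_comp_finiteType h1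
  have hfp : (orbitHom k A x).toRingHom.FinitePresentation :=
    RingHom.FinitePresentation.of_finiteType.mp hft
  have hC := isConstructible_range_comap hfp
  rw [IsClosedOrbit, ← closure_subset_iff_isClosed, closure_range_comap]
  intro p hp
  by_contra hpC
  obtain ⟨T, hT⟩ := exists_constructibleSetData_iff.mpr hC.compl
  have h0 : p ∈ T.toSet := by
    rw [hT]
    exact hpC
  simp only [ConstructibleSetData.toSet, Set.mem_iUnion] at h0
  obtain ⟨B, hB, hpB⟩ := h0
  have hlc : IsLocallyClosed (B.toSet ∩
      zeroLocus (RingHom.ker (orbitHom k A x).toRingHom : Set R)) := by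
    refine IsLocallyClosed.inter ?_ (isClosed_zeroLocus _).isLocallyClosed
    rw [BasicConstructibleSetData.toSet, Set.sdiff_eq]
    refine IsLocallyClosed.inter (isClosed_zeroLocus _).isLocallyClosed ?_
    exact (isClosed_zeroLocus _).isOpen_compl.isLocallyClosed
  have hne : (B.toSet ∩ zeroLocus (RingHom.ker (orbitHom k A x).toRingHom : Set R)).Nonempty :=
    ⟨p, hpB, hp⟩
  obtain ⟨m, ⟨hmB, hmx⟩, hm⟩ := nonempty_inter_closedPoints hne hlc
  have hmax : m.asIdeal.IsMaximal := (isClosed_singleton_iff_isMaximal m).1 hm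
  obtain ⟨z, hz⟩ := PointsAC.exists_point_of_isMaximal k R m.asIdeal
  obtain ⟨g, hg⟩ := h z (fun f hf => by
    have : f ∈ m.asIdeal := hmx hf
    rw [← hz] at this
    exact this)
  have h3 : m ∈ (T.toSet) := by
    simp only [ConstructibleSetData.toSet, Set.mem_iUnion]
    exact ⟨B, hB, hmB⟩
  rw [hT] at h3
  apply h3
  refine ⟨⟨RingHom.ker g, RingHom.ker_isPrime g⟩, ?_⟩
  apply PrimeSpectrum.ext
  rw [← hz, hg]
  rfl

theorem isClosedOrbit_iff_closedOrb (x : R →ₐ[k] k) : IsClosedOrbit k A x ↔ ClosedOrb A x :=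
  ⟨fun h _ hz => K690.Orbits.exists_actPt_of_ker_le h fun f hf => hz f hf,
    isClosedOrbit_of_closedOrb⟩

end

section Finite

variable {k : Type u} [Field k] [IsAlgClosed k] {A : Type v} [CommRing A] [HopfAlgebra k A]
  [Algebra.FiniteType k A]
variable {S : Type w} [CommRing S] [Algebra k S] [Comod k A S] [IsCoactAlg k A S]
  [Algebra.FiniteType k S]
variable {R : Type w} [CommRing R] [Algebra k R] [Comod k A R] [IsCoactAlg k A R]
  [Algebra.FiniteType k R]

theorem isClosedOrbit_comp_of_finite {φ : S →ₐ[k] R} (hφ : IsEquiv A φ)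
    (hfin : φ.toRingHom.IsIntegral) {x : R →ₐ[k] k} (hx : IsClosedOrbit k A x) :
    IsClosedOrbit k A (x.comp φ) := by
  rw [IsClosedOrbit, orbitHom_comp hφ]
  have h1 : Set.range (comap ((orbitHom k A x).comp φ).toRingHom) =
      comap φ.toRingHom '' Set.range (comap (orbitHom k A x).toRingHom) := by
    rw [← Set.range_comp, ← PrimeSpectrum.comap_comp]
    rfl
  rw [h1]
  exact isClosedMap_comap_of_isIntegral _ hfin _ hx

theorem isClosedOrbit_of_comp_of_finite {φ : S →ₐ[k] R} (hφ : IsEquiv A φ)
    (hfin : φ.toRingHom.IsIntegral) {x : R →ₐ[k] k} (hx : IsClosedOrbit k A (x.comp φ)) :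
    IsClosedOrbit k A x := by
  apply isClosedOrbit_of_closedOrb
  intro z hz
  have hcl := (isClosedOrbit_iff_closedOrb _).1 hx
  -- the image of `z` is in the orbit of the image of `x`
  obtain ⟨g, hg⟩ := hcl (z.comp φ) (fun f hf => by
    refine hz (φ f) ?_
    rw [orbitHom_comp hφ] at hf
    exact hf)
  set y := x.comp φ with hy
  obtain ⟨m, hm, -⟩ := Ideal.exists_minimalPrimes_le (I := RingHom.ker (orbitHom k A y))
    (J := RingHom.ker y) (ker_orbitHom_le_ker y)
  obtain ⟨q₁, hq₁, -, hq₁m⟩ := Ideal.exists_comap_eq_of_mem_minimalPrimes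
    (I := (⊥ : Ideal A)) (orbitHom k A y).toRingHom m hm
  -- move the component
  have hback : y = actPt k (WithConv.toConv g)⁻¹.ofConv (z.comp φ) := by
    rw [hg]
    exact (actPt_inv_actPt y (WithConv.toConv g)).symm
  set g' : A →ₐ[k] k := (WithConv.toConv g)⁻¹.ofConv with hg'
  have htr : orbitHom k A y = (K690.Orbits.trans g').comp (orbitHom k A (z.comp φ)) := by
    conv_lhs => rw [hback]
    exact K690.Orbits.orbitHom_actPt g' _
  set q' : Ideal A := q₁.comap (K690.Orbits.trans g').toRingHom with hq'
  have hq'p : q'.IsPrime := Ideal.comap_isPrime _ _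
  have hq'm : (q'.comap (orbitHom k A z).toRingHom).comap φ.toRingHom = m := by
    rw [← hq₁m, hq', Ideal.comap_comap, Ideal.comap_comap]
    congr 1
    have h2 : (orbitHom k A y).toRingHom =
      ((K690.Orbits.trans g').comp (orbitHom k A (z.comp φ))).toRingHom := by rw [← htr]
    rw [h2, orbitHom_comp hφ]
    rfl
  set p' : Ideal R := q'.comap (orbitHom k A z).toRingHom with hp'
  have hp'p : p'.IsPrime := Ideal.comap_isPrime _ _
  have hxz : RingHom.ker (orbitHom k A x) ≤ RingHom.ker (orbitHom k A z) :=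
    le_ker_orbitHom (isSubcomod_ker_orbitHom x) z hz
  have hzp : RingHom.ker (orbitHom k A z) ≤ p' := by
    intro f hf
    rw [hp', Ideal.mem_comap]
    have : (orbitHom k A z).toRingHom f = 0 := hf
    rw [this]
    exact q'.zero_mem
  obtain ⟨p, hp, hpp'⟩ := Ideal.exists_minimalPrimes_le (hxz.trans hzp)
  have hpp : p.IsPrime := hp.1.1
  obtain ⟨q, hq, -, hqp⟩ := Ideal.exists_comap_eq_of_mem_minimalPrimes
    (I := (⊥ : Ideal A)) (orbitHom k A x).toRingHom p hp
  have hpm : p.comap φ.toRingHom = m := by
    refine le_antisymm ?_ ?_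
    · rw [← hq'm]
      exact Ideal.comap_mono hpp'
    · refine hm.2 ⟨Ideal.comap_isPrime _ _, ?_⟩ ?_
      · intro f hf
        rw [Ideal.mem_comap]
        apply hp.1.2
        rw [hy, orbitHom_comp hφ] at hf
        exact hf
      · rw [← hq'm]
        exact Ideal.comap_mono hpp'
  have hpeq : p = p' := by
    by_contra hne
    have hlt : p < p' := lt_of_le_of_ne hpp' hne
    algebraize [φ.toRingHom]
    have hint : Algebra.IsIntegral S R := ⟨hfin⟩
    have h4 := Ideal.IsIntegral.comap_lt_comap (R := S) (A := R) hlt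
    have h5 : p.comap (algebraMap S R) = p'.comap (algebraMap S R) := hpm.trans hq'm.symm
    exact absurd h5 (ne_of_lt h4)
  exact exists_actPt_eq_of_comap_eq x z q q' (hqp.trans hpeq)

theorem isClosedOrbit_iff_of_finite {φ : S →ₐ[k] R} (hφ : IsEquiv A φ)
    (hfin : φ.toRingHom.IsIntegral) (x : R →ₐ[k] k) :
    IsClosedOrbit k A x ↔ IsClosedOrbit k A (x.comp φ) :=
  ⟨isClosedOrbit_comp_of_finite hφ hfin, isClosedOrbit_of_comp_of_finite hφ hfin⟩

end Finite

end K765.Closed
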