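import Groth.Agent.GLin.K765.OrbFlat

/-!
# Functions on a closed orbit are the functions invariant under the stabiliser

* `mem_range_of_comul_sub_mem`: if `Δ a ≡ 1 ⊗ a` modulo `stabIdeal x ⊗ A` and the orbit of `x` is
  closed, then `a` is in the image of the orbit map of `x`;
* `isHopfIdeal_stabIdeal`; `isReduced_quotient_stabIdeal` (characteristic zero);
* `mem_range_of_forall_stab`: the version with rational points of the stabiliser.
-/

set_option autoImplicit false
set_option linter.unusedSectionVars false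

universe u v w

open TensorProduct HopfRep GLin

namespace K765.Coinv

open Groth.Agent.Books Groth.Agent.Books.ComodBasic Groth.Agent.Books.ComodHom
open Groth.Agent.Books.ComodInv Groth.Agent.Books.ComodPoints
open K701.Orbit K701.Orbit2 K765.Basic K765.Tr K765.OrbFlat WithConv

section

variable {k : Type u} [Field k] {A : Type v} [CommRing A] [HopfAlgebra k A]
variable {R : Type w} [CommRing R] [Algebra k R] [Comod k A R] [IsCoactAlg k A R]

/-- The comultiplication of an element of the image of an orbit map. -/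
lemma comul_mem_range (x : R →ₐ[k] k) {b : A} (hb : b ∈ (orbitHom k A x).range) :
    Coalgebra.comul (R := k) b ∈
      LinearMap.range ((orbitHom k A x).range.toSubmodule.subtype.rTensor A) := by
  obtain ⟨f, rfl⟩ := hb
  have h1 : Coalgebra.comul (R := k) (orbitHom k A x f) =
      (orbitHom k A x).toLinearMap.rTensor A (Comod.coact (k := k) (A := A) f) :=
    K690.Orbits.isComodHom_orbitHom x f
  refine ⟨((orbitHom k A x).rangeRestrict.toLinearMap.rTensor A)
    (Comod.coact (k := k) (A := A) f), ?_⟩
  refine Eq.trans ?_ h1.symm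
  rw [← LinearMap.comp_apply, ← LinearMap.rTensor_comp]
  rfl

lemma counit_orbitHom' (x : R →ₐ[k] k) (f : R) :
    Coalgebra.counit (R := k) (orbitHom k A x f) = x f := K690.Orbits.counit_orbitHom x f

end

section Main

variable {k : Type u} [Field k] [IsAlgClosed k] {A : Type u} [CommRing A] [IsDomain A]
  [HopfAlgebra k A] [Algebra.FiniteType k A]
variable {R : Type w} [CommRing R] [Algebra k R] [Comod k A R] [IsCoactAlg k A R]

theorem mem_range_of_comul_sub_mem {x : R →ₐ[k] k} (hx : IsClosedOrbit k A x) {a : A}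
    (ha : Coalgebra.comul (R := k) a - 1 ⊗ₜ[k] a ∈ (stabIdeal k A x).map
      (Algebra.TensorProduct.includeLeft : A →ₐ[k] A ⊗[k] A)) :
    a ∈ (orbitHom k A x).range := by
  have := faithfullyFlat_of_isClosedOrbit (A := A) hx
  set B := (orbitHom k A x).range with hB
  let Φ : A ⊗[k] A →ₐ[k] A ⊗[B] A := (proj B).comp (igal k A)
  have h1 : (stabIdeal k A x).map (Algebra.TensorProduct.includeLeft : A →ₐ[k] A ⊗[k] A) ≤
      RingHom.ker Φ := by
    rw [Ideal.map_le_iff_le_comap, stabIdeal, Ideal.map_le_iff_le_comap]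
    intro f hf
    rw [Ideal.mem_comap, Ideal.mem_comap, RingHom.mem_ker]
    change Φ ((orbitHom k A x f) ⊗ₜ 1) = 0
    have h2 := proj_igal_of_comul_mem B (orbitHom k A x f)
      (comul_mem_range x ⟨f, rfl⟩) 1
    refine h2.trans ?_
    rw [counit_orbitHom', (RingHom.mem_ker).1 hf, zero_smul]
  have h3 := h1 ha
  rw [RingHom.mem_ker, map_sub, sub_eq_zero] at h3
  have h4 : Φ (Coalgebra.comul (R := k) a) = a ⊗ₜ[B] 1 := by
    change proj B (igal k A (Coalgebra.comul (R := k) a)) = _
    rw [igal_comul, proj_tmul]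
  have h5 : Φ (1 ⊗ₜ a) = 1 ⊗ₜ[B] a := by
    change proj B (igal k A (1 ⊗ₜ a)) = _
    rw [igal_tmul, Bialgebra.comul_one, map_one, one_mul, proj_tmul]
  rw [h4, h5] at h3
  obtain ⟨b, rfl⟩ := exists_of_tmul_eq (B := B) a h3.symm
  exact b.2

/-- A group-like element which is trivial on the stabiliser of a closed orbit is a function on the
orbit. -/
theorem mem_range_of_isGroupLike {x : R →ₐ[k] k} (hx : IsClosedOrbit k A x) {χ : A}
    (hχ : IsGroupLikeElem k χ) (h : χ - 1 ∈ stabIdeal k A x) : χ ∈ (orbitHom k A x).range := by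
  apply mem_range_of_comul_sub_mem hx
  have h1 : Coalgebra.comul (R := k) χ - 1 ⊗ₜ[k] χ =
      (1 ⊗ₜ χ) * (Algebra.TensorProduct.includeLeft : A →ₐ[k] A ⊗[k] A) (χ - 1) := by
    rw [hχ.comul_eq_tmul_self, Algebra.TensorProduct.includeLeft_apply,
      Algebra.TensorProduct.tmul_mul_tmul, one_mul, mul_one, sub_tmul]
  rw [h1]
  exact Ideal.mul_mem_left _ _ (Ideal.mem_map_of_mem _ h)

end Main

end K765.Coinv
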