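import Groth.Agent.GIT.K688.Reynolds
import Groth.Agent.GLin.K765.Basic

/-!
# The Reynolds operator as a function, with its module properties

`rey hG V : V →ₗ[k] V`: the Reynolds operator of a comodule `V` over a linearly reductive bialgebra;
`rey_mem`, `rey_of_mem`, `map_rey` (naturality), `rey_mem_of_isSubcomod`, `rey_mul`, `rey_mul_right`;
`exists_invariant_lift`: invariants lift along surjective equivariant maps.
-/

set_option autoImplicit false
set_option linter.unusedSectionVars false

universe u v w

open TensorProduct HopfRep GLin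

namespace K765.Rey

open Groth.Agent.Books.ComodBasic Groth.Agent.Books.ComodHom Groth.Agent.Books.ComodInv
open K765.Basic

variable {k : Type u} {A : Type v} [Field k] [CommRing A] [Bialgebra k A]
  (hG : IsLinearlyReductive k A)

section Mod

variable (V : Type v) [AddCommGroup V] [Module k V] [Comod k A V]

/-- The Reynolds operator. -/
noncomputable def rey : V →ₗ[k] V :=
  (K688.Reynolds.existsUnique_reynolds (V := V) hG).choose

lemma rey_spec : IsComodHom k A (rey hG V) ∧ rey hG V ∘ₗ rey hG V = rey hG V ∧
    ∀ x : V, rey hG V x = x ↔ x ∈ fixedPts k A V :=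
  (K688.Reynolds.existsUnique_reynolds (V := V) hG).choose_spec.1

lemma isComodHom_rey : IsComodHom k A (rey hG V) := (rey_spec hG V).1

variable {V}

lemma rey_mem (x : V) : rey hG V x ∈ fixedPts k A V :=
  K688.Reynolds.apply_mem (rey_spec hG V).2.1 (rey_spec hG V).2.2 x

lemma rey_of_mem {x : V} (hx : x ∈ fixedPts k A V) : rey hG V x = x :=
  ((rey_spec hG V).2.2 x).2 hx

lemma rey_mem_of_isSubcomod {U : Submodule k V} (hU : IsSubcomod (k := k) (A := A) U) {x : V}
    (hx : x ∈ U) : rey hG V x ∈ U :=
  K688.Reynolds.apply_mem_subcomod hG (rey_spec hG V).1 (rey_spec hG V).2.1 (rey_spec hG V).2.2 U hU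
    hx

variable {W : Type v} [AddCommGroup W] [Module k W] [Comod k A W]

/-- Naturality of the Reynolds operator. -/
lemma map_rey {f : V →ₗ[k] W} (hf : IsComodHom k A f) (x : V) :
    f (rey hG V x) = rey hG W (f x) :=
  (K688.Reynolds.reynolds_comm hG (rey_spec hG V).1 (rey_spec hG V).2.1 (rey_spec hG V).2.2
    (rey_spec hG W).1 (rey_spec hG W).2.1 (rey_spec hG W).2.2 hf x).symm

end Mod

section Alg

variable {R : Type v} [CommRing R] [Algebra k R] [Comod k A R] [IsCoactAlg k A R]

lemma isComodHom_mulRight {p : R} (hp : p ∈ invariants k A R) :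
    IsComodHom k A (LinearMap.mulRight k p) := by
  intro g
  have hp' : Comod.coact (k := k) (A := A) p = p ⊗ₜ[k] (1 : A) := hp
  rw [LinearMap.mulRight_apply, IsCoactAlg.coact_mul, hp']
  generalize Comod.coact (k := k) (A := A) g = y
  induction y with
  | zero => simp
  | tmul x a => simp
  | add x y hx hy => rw [add_mul, map_add, hx, hy]

lemma rey_mem_invariants (x : R) : rey hG R x ∈ invariants k A R := rey_mem hG x

lemma rey_of_mem_invariants {x : R} (hx : x ∈ invariants k A R) : rey hG R x = x :=
  rey_of_mem hG hx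

lemma rey_mul (x : R) {p : R} (hp : p ∈ invariants k A R) : rey hG R (x * p) = rey hG R x * p :=
  (map_rey hG (isComodHom_mulRight hp) x).symm

lemma rey_mul' (x : R) {p : R} (hp : p ∈ invariants k A R) : rey hG R (p * x) = p * rey hG R x := by
  rw [mul_comm, rey_mul hG x hp, mul_comm]

variable {S : Type v} [CommRing S] [Algebra k S] [Comod k A S] [IsCoactAlg k A S]

lemma map_rey_alg {φ : S →ₐ[k] R} (hφ : IsEquiv A φ) (x : S) :
    φ (rey hG S x) = rey hG R (φ x) := map_rey hG hφ.isComodHom x

include hG in
/-- Invariants lift along equivariant maps. -/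
lemma exists_invariant_lift {φ : S →ₐ[k] R} (hφ : IsEquiv A φ) {r : R}
    (hr : r ∈ invariants k A R) {s : S} (hs : φ s = r) :
    ∃ s' ∈ invariants k A S, φ s' = r :=
  ⟨rey hG S s, rey_mem_invariants hG s, by rw [map_rey_alg hG hφ, hs, rey_of_mem_invariants hG hr]⟩

include hG in
/-- Invariants in the ideal generated by invariants. -/
lemma mem_span_of_mem_invariants (T : Set R) (hT : T ⊆ invariants k A R) {r : R}
    (hr : r ∈ invariants k A R) (hrT : r ∈ Ideal.span T) :
    ∃ (c : T →₀ R), (∀ t, c t ∈ invariants k A R) ∧ r = c.sum fun (t : T) a => a * (t : R) := by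
  obtain ⟨c, hc⟩ := (Finsupp.mem_span_iff_linearCombination _ _ _).1 hrT
  refine ⟨c.mapRange (rey hG R) (map_zero _), fun t => ?_, ?_⟩
  · rw [Finsupp.mapRange_apply]
    exact rey_mem_invariants hG _
  · rw [Finsupp.sum_mapRange_index (by simp)]
    have h1 : rey hG R (Finsupp.linearCombination R (fun x : T => (x : R)) c) = rey hG R r := by
      rw [hc]
    rw [rey_of_mem_invariants hG hr] at h1
    rw [← h1, Finsupp.linearCombination_apply, Finsupp.sum, Finsupp.sum, map_sum]
    refine Finset.sum_congr rfl fun t _ => ?_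
    rw [smul_eq_mul]
    exact rey_mul hG (c t) (hT t.2)

end Alg

end K765.Rey
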