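import Groth.Agent.GLin.K765.Slice4

/-!
# Stabilizers near a closed orbit
-/

set_option autoImplicit false
set_option linter.unusedSectionVars false

universe u v w w' w''

open TensorProduct HopfRep GLin

namespace K765.Slice5

open Groth.Agent.Books Groth.Agent.Books.ComodBasic Groth.Agent.Books.ComodHom
open K765.Basic K765.Tr K765.Gens K765.SubAlg K765.Build K765.Haar K765.StabPt K765.Slice4

theorem exists_invariant (k : Type u) [Field k] [IsAlgClosed k] [CharZero k]
    (A : Type u) [CommRing A] [IsDomain A] [HopfAlgebra k A] [Algebra.FiniteType k A]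
    (hG : HopfRep.IsLinearlyReductive k A)
    (R : Type u) [CommRing R] [Algebra k R] [Algebra.FiniteType k R]
    [HopfRep.Comod k A R] [GLin.IsCoactAlg k A R]
    (x : R →ₐ[k] k) (hx : GLin.IsClosedOrbit k A x) :
    ∃ f ∈ GLin.invariants k A R, x f ≠ 0 ∧
      ∀ x' : R →ₐ[k] k, x' f ≠ 0 →
        ∃ g : A →ₐ[k] k, GLin.stabIdeal k A x ≤ GLin.stabIdeal k A (GLin.actPt k g x') := by
  obtain ⟨E, hE, hEf, hEgen⟩ := exists_generating (k := k) A R
  letI cE : Comod k A E := subComod E hE
  letI cS := symComod k A E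
  haveI aS := isCoactAlg_sym k A E
  let π : SymmetricAlgebra k E →ₐ[k] R := SymmetricAlgebra.lift E.subtype
  have eπ : IsEquiv A π := isEquiv_lift (isComodHom_subtype E hE)
  have hπ : Function.Surjective π := lift_subtype_surjective hEgen
  have hfix : ∀ (g : A →ₐ[k] k) (z : R →ₐ[k] k), actPt k g (z.comp π) = z.comp π →
      actPt k g z = z := by
    intro g z hg
    rw [actPt_comp eπ] at hg
    refine AlgHom.ext fun s => ?_
    obtain ⟨s, rfl⟩ := hπ s
    exact DFunLike.congr_fun hg s
  have hy : IsClosedOrbit k A (x.comp π) := by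
    rw [IsClosedOrbit, orbitHom_comp eπ]
    exact (isClosed_range_comap_comp_iff π.toRingHom hπ (orbitHom k A x).toRingHom).2 hx
  obtain ⟨F, hF, hyF, hmain⟩ := exists_invariant_sym k A hG E (x.comp π) hy
  refine ⟨π F, eπ.map_mem_invariants hF, hyF, fun x' hx' => ?_⟩
  obtain ⟨g, hg⟩ := hmain (x'.comp π) hx'
  refine ⟨inv g, ?_⟩
  rw [stabIdeal_le_iff]
  intro h hh
  let h' : A →ₐ[k] k := ((WithConv.toConv g)⁻¹ * WithConv.toConv h * WithConv.toConv g).ofConv
  have hh' : ∀ {B : Type u} [CommRing B] [Algebra k B] [Comod k A B] [IsCoactAlg k A B]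
      (z : B →ₐ[k] k), actPt k h' z = actPt k g (actPt k h (actPt k (inv g) z)) := by
    intro B _ _ _ _ z
    change actPt k (_ * _ : WithConv (A →ₐ[k] k)).ofConv z = _
    rw [K701.Orbit.actPt_mul, K701.Orbit.actPt_mul]
    rfl
  have h1 : actPt k h' x' = x' := by
    rw [hh', hh, actPt_inv']
  have h2 : actPt k h' (x'.comp π) = x'.comp π := by
    rw [actPt_comp eπ, h1]
  have h3 := hg h' h2
  rw [hh', actPt_inv] at h3
  exact hfix h x (actPt_injective g h3)

end K765.Slice5
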