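import Groth.Agent.GLin.K765.Tr
import Groth.Agent.FlatA.GenericFree2
import Mathlib.RingTheory.RingHom.Flat
import Mathlib.RingTheory.Flat.FaithfullyFlat.Algebra
import Mathlib.Algebra.Module.LocalizedModule.IsLocalization

/-!
# Flatness over translation-stable subalgebras and the coordinate ring of a closed orbit

`A` is a finitely generated commutative Hopf algebra, a domain, over an algebraically closed field.
* `flat_of_stable`: `A` is flat over every translation-stable subalgebra;
* `faithfullyFlat_of_isClosedOrbit`: `A` is faithfully flat over the image of the orbit map of a point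
  with closed orbit;
* `mem_range_of_comul_sub_mem`: the image of the orbit map of a point with closed orbit consists
  of the functions invariant under the stabiliser scheme.
-/

set_option autoImplicit false
set_option linter.unusedSectionVars false

universe u v w

open TensorProduct HopfRep GLin

namespace K765.OrbFlat

open Groth.Agent.Books Groth.Agent.Books.ComodBasic Groth.Agent.Books.ComodHom
open Groth.Agent.Books.ComodInv Groth.Agent.Books.ComodPoints
open K701.Orbit K701.Orbit2 K765.Basic K765.Tr WithConv
open Groth.Agent.FlatA.GenericFree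

variable {k : Type u} [Field k] [IsAlgClosed k] {A : Type u} [CommRing A] [IsDomain A]
  [HopfAlgebra k A] [Algebra.FiniteType k A]

/-- Generic flatness of a finitely generated algebra over a domain, in ring map form. -/
theorem exists_flat_away {B C : Type u} [CommRing B] [IsDomain B] [CommRing C] [Algebra B C]
    [Algebra.FiniteType B C] :
    ∃ f : B, f ≠ 0 ∧
      ((algebraMap C (Localization.Away (algebraMap B C f))).comp (algebraMap B C)).Flat := by
  obtain ⟨f, hf, hfree⟩ := (genFree_of_finiteType.{u, u, u} (R := B) C) C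
  refine ⟨f, hf, ?_⟩
  let R' := Localization.Away f
  let M' := Localization.Away (algebraMap B C f)
  let _ : Algebra R' M' :=
    (IsLocalization.Away.map R' M' (algebraMap B C) f).toAlgebra
  have hcomm : ∀ b : B, algebraMap R' M' (algebraMap B R' b) = algebraMap C M' (algebraMap B C b) := by
    intro b
    have h0 : (IsLocalization.Away.map R' M' (algebraMap B C) f) (algebraMap B R' b) =
        algebraMap C M' (algebraMap B C b) := IsLocalization.map_eq _ _
    exact h0
  have ht : IsScalarTower B R' M' := IsScalarTower.of_algebraMap_eq fun b => by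
    rw [hcomm, ← IsScalarTower.algebraMap_apply]
  have hl : IsLocalization (Algebra.algebraMapSubmonoid C (Submonoid.powers f)) M' := by
    have : Algebra.algebraMapSubmonoid C (Submonoid.powers f) =
        Submonoid.powers (algebraMap B C f) := by
      rw [Algebra.algebraMapSubmonoid, Submonoid.map_powers]
    rw [this]
    infer_instance
  have hlm : IsLocalizedModule (Submonoid.powers f) (IsScalarTower.toAlgHom B C M').toLinearMap :=
    isLocalizedModule_iff_isLocalization.2 hl
  have h1 : Module.Free R' M' := hfree.free R' (IsScalarTower.toAlgHom B C M').toLinearMap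
  have h2 : Module.Flat B R' := IsLocalization.flat _ (Submonoid.powers f)
  have h3 : Module.Flat B M' := Module.Flat.trans B R' M'
  rw [← IsScalarTower.algebraMap_eq B C M']
  exact RingHom.flat_algebraMap_iff.2 h3

/-- In the regular comodule, moving the neutral element by `g` gives `g`. -/
lemma actPt_counit (g : A →ₐ[k] k) : actPt k g (Bialgebra.counitAlgHom k A) = g := by
  apply AlgHom.ext
  intro a
  rw [actPt_apply, orbitHom_apply]
  have h1 : (Bialgebra.counitAlgHom k A).toLinearMap.rTensor A
      (Comod.coact (k := k) (A := A) a) = 1 ⊗ₜ a :=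
    Coalgebra.rTensor_counit_comul (R := k) a
  rw [h1]
  simp

/-- `g` is `h` moved by `h⁻¹ g`. -/
lemma actPt_inv_mul (h g : A →ₐ[k] k) :
    actPt k ((toConv h)⁻¹ * toConv g).ofConv h = g := by
  rw [actPt_mul]
  have h1 : actPt k ((toConv h)⁻¹).ofConv h = Bialgebra.counitAlgHom k A := by
    have h2 := actPt_inv_actPt (Bialgebra.counitAlgHom k A) (toConv h)
    have h3 : actPt k (toConv h).ofConv (Bialgebra.counitAlgHom k A) = h := actPt_counit h
    rwa [h3] at h2
  rw [h1]
  exact actPt_counit g

/-- `A` is flat over each subalgebra stable under translations. -/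
theorem flat_of_stable (B : Subalgebra k A) (hB : ∀ g : A →ₐ[k] k, ∀ b ∈ B, tr A g b ∈ B) :
    Module.Flat B A := by
  have hft : Algebra.FiniteType B A := Algebra.FiniteType.of_restrictScalars_finiteType k B A
  obtain ⟨f, hf, hflat⟩ := exists_flat_away (B := B) (C := A)
  rw [← RingHom.flat_algebraMap_iff]
  have hf' : (f : A) ≠ 0 := fun h => hf (Subtype.ext h)
  refine RingHom.Flat.ofLocalizationSpanTarget (algebraMap B A)
    (Set.range fun g : A →ₐ[k] k => tr A g (f : A)) ?_ ?_
  · by_contra hne
    obtain ⟨h, hh⟩ := K690.Orbits.exists_point_of_ne_top (k := k) _ hne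
    apply hf'
    refine sep (k := k) (A := A) _ fun g => ?_
    have h1 : h (tr A ((toConv h)⁻¹ * toConv g).ofConv (f : A)) = 0 :=
      hh (Ideal.subset_span ⟨((toConv h)⁻¹ * toConv g).ofConv, rfl⟩)
    have h2 := point_tr h ((toConv h)⁻¹ * toConv g).ofConv (f : A)
    rw [actPt_inv_mul] at h2
    rw [← h2]
    exact h1
  · rintro ⟨_, g, rfl⟩
    let ψ : B →+* B := ((tr A (inv g)).toRingHom.comp (algebraMap B A)).codRestrict B
      fun b => hB (inv g) _ b.2
    have hψ : ∀ b : B, (ψ b : A) = tr A (inv g) (b : A) := fun b => rfl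
    have hψb : Function.Bijective ψ := by
      constructor
      · intro a b hab
        have h1 : (ψ a : A) = ψ b := congrArg Subtype.val hab
        rw [hψ, hψ] at h1
        have h2 := congrArg (tr A g) h1
        rw [tr_tr_inv', tr_tr_inv'] at h2
        exact Subtype.ext h2
      · intro b
        refine ⟨⟨tr A g (b : A), hB g _ b.2⟩, Subtype.ext ?_⟩
        rw [hψ]
        exact tr_inv g (b : A)
    have h1 : (tr A g).toRingHom.Flat := by
      refine RingHom.Flat.of_bijective ⟨?_, fun a => ⟨tr A (inv g) a, tr_tr_inv' g a⟩⟩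
      intro a b hab
      have h2 : tr A g a = tr A g b := hab
      have h3 := congrArg (tr A (inv g)) h2
      rwa [tr_inv, tr_inv] at h3
    have h2 : (IsLocalization.Away.map (Localization.Away (f : A))
        (Localization.Away ((tr A g).toRingHom (f : A))) (tr A g).toRingHom (f : A)).Flat :=
      RingHom.Flat.propertyIsLocal.localizationAwayPreserves _ _ _ _ h1
    have h3 := ((RingHom.Flat.of_bijective hψb).comp hflat).comp h2
    have h4 : ((algebraMap A (Localization.Away (tr A g (f : A)))).comp (algebraMap B A)) =
        ((IsLocalization.Away.map (Localization.Away (f : A))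
        (Localization.Away ((tr A g).toRingHom (f : A))) (tr A g).toRingHom (f : A)).comp
        (((algebraMap A (Localization.Away (algebraMap B A f))).comp (algebraMap B A)).comp ψ)) := by
      ext b
      have h5 : (IsLocalization.Away.map (Localization.Away (f : A))
        (Localization.Away ((tr A g).toRingHom (f : A))) (tr A g).toRingHom (f : A))
        (algebraMap A (Localization.Away (f : A)) (tr A (inv g) (b : A))) =
        algebraMap A (Localization.Away ((tr A g).toRingHom (f : A)))
          ((tr A g) (tr A (inv g) (b : A))) := IsLocalization.map_eq _ _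
      rw [tr_tr_inv'] at h5
      exact h5.symm
    rw [h4]
    exact h3

/-- The orbit map is equivariant. -/
lemma isEquiv_orbitHom {R : Type w} [CommRing R] [Algebra k R] [Comod k A R] [IsCoactAlg k A R]
    (x : R →ₐ[k] k) : IsEquiv A (orbitHom k A x) :=
  (isEquiv_iff _).2 (K690.Orbits.isComodHom_orbitHom x)

section Closed

variable {R : Type w} [CommRing R] [Algebra k R] [Comod k A R] [IsCoactAlg k A R]

lemma tr_mem_range (x : R →ₐ[k] k) (g : A →ₐ[k] k) {b : A} (hb : b ∈ (orbitHom k A x).range) :
    tr A g b ∈ (orbitHom k A x).range := by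
  obtain ⟨f, rfl⟩ := hb
  exact ⟨tr R g f, map_tr (isEquiv_orbitHom x) g f⟩

theorem flat_range (x : R →ₐ[k] k) : Module.Flat (orbitHom k A x).range A :=
  flat_of_stable _ fun g _ hb => tr_mem_range x g hb

/-- `A` is faithfully flat over the coordinate ring of a closed orbit. -/
theorem faithfullyFlat_of_isClosedOrbit {x : R →ₐ[k] k} (hx : IsClosedOrbit k A x) :
    Module.FaithfullyFlat (orbitHom k A x).range A := by
  have := flat_range (A := A) x
  apply Module.FaithfullyFlat.of_comap_surjective
  intro q
  let π : R →+* (orbitHom k A x).range := (orbitHom k A x).rangeRestrict.toRingHom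
  have hπ : Function.Surjective π := (orbitHom k A x).rangeRestrict_surjective
  have hcomp : (algebraMap (orbitHom k A x).range A).comp π = (orbitHom k A x).toRingHom := rfl
  have h1 : PrimeSpectrum.comap π q ∈
      Set.range (PrimeSpectrum.comap (orbitHom k A x).toRingHom) := by
    rw [← IsClosed.closure_eq hx, PrimeSpectrum.closure_range_comap]
    intro f hf
    have h2 : π f = 0 := Subtype.ext hf
    change π f ∈ q.asIdeal
    rw [h2]
    exact q.asIdeal.zero_mem
  obtain ⟨p, hp⟩ := h1
  refine ⟨p, ?_⟩
  apply PrimeSpectrum.comap_injective_of_surjective π hπ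
  rw [← hp, ← PrimeSpectrum.comap_comp_apply, hcomp]

end Closed

section Descent

/-- Faithfully flat descent for elements. -/
theorem exists_of_tmul_eq {B : Type u} {C : Type v} [CommRing B] [CommRing C] [Algebra B C]
    [Module.FaithfullyFlat B C] (a : C) (h : (1 : C) ⊗ₜ[B] a = a ⊗ₜ[B] 1) :
    ∃ b : B, algebraMap B C b = a := by
  have hinj := Module.FaithfullyFlat.tensorProduct_mk_injective (A := B) (B := C)
    (C ⧸ LinearMap.range (Algebra.linearMap B C))
  have h1 := congrArg ((LinearMap.range (Algebra.linearMap B C)).mkQ.lTensor C) h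
  rw [LinearMap.lTensor_tmul, LinearMap.lTensor_tmul] at h1
  have h2 : (LinearMap.range (Algebra.linearMap B C)).mkQ (1 : C) = 0 := by
    rw [Submodule.mkQ_apply, Submodule.Quotient.mk_eq_zero]
    exact ⟨1, by simp⟩
  rw [h2, TensorProduct.tmul_zero] at h1
  have h3 : (LinearMap.range (Algebra.linearMap B C)).mkQ a = 0 := by
    apply hinj
    rw [map_zero]
    exact h1
  rw [Submodule.mkQ_apply, Submodule.Quotient.mk_eq_zero] at h3
  exact h3

end Descent

section Galois

variable {k : Type u} [Field k] {A : Type v} [CommRing A] [HopfAlgebra k A]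

/-- The inverse of the Galois map: `a ⊗ b ↦ a₁ ⊗ S(a₂) b`. -/
noncomputable def igal (k : Type u) [Field k] (A : Type v) [CommRing A] [HopfAlgebra k A] :
    A ⊗[k] A →ₐ[k] A ⊗[k] A :=
  Algebra.TensorProduct.productMap
    ((Algebra.TensorProduct.map (AlgHom.id k A) (HopfAlgebra.antipodeAlgHom k A)).comp
      (Bialgebra.comulAlgHom k A)) Algebra.TensorProduct.includeRight

lemma igal_tmul (a b : A) : igal k A (a ⊗ₜ b) =
    Algebra.TensorProduct.map (AlgHom.id k A) (HopfAlgebra.antipodeAlgHom k A)
      (Coalgebra.comul (R := k) a) * (1 ⊗ₜ b) := rfl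

lemma igal_comul (a : A) : igal k A (Coalgebra.comul (R := k) a) = a ⊗ₜ 1 := by
  have h1 : ∀ t : A ⊗[k] A, igal k A t = (LinearMap.mul' k A ∘ₗ
      (HopfAlgebra.antipode k (A := A)).rTensor A).lTensor A
      (TensorProduct.assoc k A A A ((Coalgebra.comul (R := k) (A := A)).rTensor A t)) := by
    intro t
    induction t with
    | zero => simp
    | add x y hx hy => simp only [map_add, hx, hy]
    | tmul a b =>
      rw [igal_tmul, LinearMap.rTensor_tmul]
      generalize Coalgebra.comul (R := k) a = z
      induction z with
      | zero => simp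
      | add x y hx hy => simp only [map_add, add_mul, add_tmul, hx, hy]
      | tmul c d => simp
  rw [h1, Coalgebra.coassoc_apply]
  have h2 : ∀ t : A ⊗[k] A, (LinearMap.mul' k A ∘ₗ
      (HopfAlgebra.antipode k (A := A)).rTensor A).lTensor A
      ((Coalgebra.comul (R := k) (A := A)).lTensor A t) =
      (Algebra.linearMap k A).lTensor A ((Coalgebra.counit (R := k) (A := A)).lTensor A t) := by
    intro t
    induction t with
    | zero => simp
    | add x y hx hy => simp only [map_add, hx, hy]
    | tmul c d =>
      rw [LinearMap.lTensor_tmul, LinearMap.lTensor_tmul, LinearMap.lTensor_tmul,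
        LinearMap.lTensor_tmul, LinearMap.comp_apply,
        HopfAlgebra.mul_antipode_rTensor_comul_apply]
      rfl
  rw [h2, Coalgebra.lTensor_counit_comul]
  simp

variable {R : Type w} [CommRing R] [Algebra k R] [Comod k A R] [IsCoactAlg k A R]

/-- `Φ : a ⊗ b ↦ a₁ ⊗ S(a₂) b` with values in `A ⊗_B A`. -/
noncomputable def proj (B : Subalgebra k A) : A ⊗[k] A →ₐ[k] A ⊗[B] A :=
  Algebra.TensorProduct.productMap
    (Algebra.TensorProduct.includeLeft : A →ₐ[k] A ⊗[B] A)
    ((Algebra.TensorProduct.includeRight : A →ₐ[B] A ⊗[B] A).restrictScalars k)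

lemma proj_tmul (B : Subalgebra k A) (a b : A) : proj B (a ⊗ₜ b) = a ⊗ₜ[B] b := by
  simp [proj]

/-- The composite of the inverse Galois map with the projection kills the augmentation of `B`. -/
lemma proj_igal_of_comul_mem (B : Subalgebra k A) (b : A)
    (hb : Coalgebra.comul (R := k) b ∈ LinearMap.range (B.toSubmodule.subtype.rTensor A)) (a : A) :
    proj B (igal k A (b ⊗ₜ a)) = Coalgebra.counit (R := k) b • (1 ⊗ₜ[B] a) := by
  obtain ⟨t, ht⟩ := hb
  have h1 : ∀ t : B.toSubmodule ⊗[k] A, proj B
      (Algebra.TensorProduct.map (AlgHom.id k A) (HopfAlgebra.antipodeAlgHom k A)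
        (B.toSubmodule.subtype.rTensor A t) * (1 ⊗ₜ a)) =
      1 ⊗ₜ[B] (LinearMap.mul' k A ((HopfAlgebra.antipode k (A := A)).lTensor A
        (B.toSubmodule.subtype.rTensor A t)) * a) := by
    intro t
    induction t with
    | zero => simp
    | add x y hx hy => simp only [map_add, add_mul, tmul_add, hx, hy]
    | tmul c d =>
      simp only [LinearMap.rTensor_tmul, Submodule.subtype_apply, Algebra.TensorProduct.map_tmul,
        AlgHom.id_apply, Algebra.TensorProduct.tmul_mul_tmul, mul_one, proj_tmul,
        LinearMap.lTensor_tmul, LinearMap.mul'_apply]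
      have h2 : ((c : A) ⊗ₜ[B] ((HopfAlgebra.antipodeAlgHom k A) d * a)) =
          (1 : A) ⊗ₜ[B] ((c : A) * ((HopfAlgebra.antipodeAlgHom k A) d * a)) := by
        have h3 : (c : A) = (⟨c.1, c.2⟩ : B) • (1 : A) := by
          rw [Algebra.smul_def, mul_one]
          rfl
        conv_lhs => rw [h3, TensorProduct.smul_tmul]
        rfl
      rw [h2, ← mul_assoc]
      rfl
  rw [igal_tmul, ← ht, h1, ht, HopfAlgebra.mul_antipode_lTensor_comul_apply]
  rw [Algebra.algebraMap_eq_smul_one, smul_mul_assoc, one_mul, TensorProduct.tmul_smul]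

end Galois

end K765.OrbFlat
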