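import Groth.Agent.GLin.K765.Build
import Mathlib.RingTheory.Polynomial.UniqueFactorization
import Mathlib.RingTheory.IntegralClosure.IntegrallyClosed
import Mathlib.RingTheory.FiniteType

/-!
# Generating subcomodules, composition of equivariant maps

* `exists_finite_subcomod_le`, `exists_generating`, `exists_generating_ideal`;
* `IsEquiv.comp`, `isEquiv_of_injective_comp`;
* the symmetric algebra of a finite-dimensional space is a normal domain of finite type.
-/

set_option autoImplicit false
set_option linter.unusedSectionVars false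

universe u v w w' w''

open TensorProduct HopfRep GLin

namespace K765.Gens

open Groth.Agent.Books Groth.Agent.Books.ComodBasic Groth.Agent.Books.ComodHom
open K765.Basic K765.SubAlg K765.Build

section

variable {k : Type u} {A : Type v} [Field k] [CommRing A] [Bialgebra k A]

/-- A finite set of elements of a subcomodule lies in a finite-dimensional subcomodule of it. -/
lemma exists_finite_subcomod_le {V : Type w} [AddCommGroup V] [Module k V] [Comod k A V]
    (T : Finset V) (W : Submodule k V) (hW : IsSubcomod (k := k) (A := A) W)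
    (hT : ∀ t ∈ T, t ∈ W) : ∃ E : Submodule k V, E ≤ W ∧ IsSubcomod (k := k) (A := A) E ∧
      Module.Finite k E ∧ ∀ t ∈ T, t ∈ E := by
  refine ⟨⨆ v ∈ T, gen k A v, iSup₂_le fun t ht => gen_le hW (hT t ht),
    IsSubcomod.iSup fun v => IsSubcomod.iSup fun _ => isSubcomod_gen v, ?_, ?_⟩
  · rw [← Finset.sup_eq_iSup]
    exact Submodule.finiteDimensional_finset_sup T (fun v => gen k A v)
  · intro v hv
    exact Submodule.mem_iSup_of_mem v (Submodule.mem_iSup_of_mem hv (self_mem_gen v))

variable (A) in
lemma exists_generating (R : Type w) [CommRing R] [Algebra k R] [Comod k A R]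
    [Algebra.FiniteType k R] : ∃ E : Submodule k R, IsSubcomod (k := k) (A := A) E ∧
      Module.Finite k E ∧ Algebra.adjoin k (E : Set R) = ⊤ := by
  obtain ⟨T, hT⟩ := Algebra.FiniteType.out (R := k) (A := R)
  obtain ⟨E, -, h1, h2, h3⟩ := exists_finite_subcomod_le (k := k) (A := A) T ⊤ isSubcomod_top
    (fun _ _ => trivial)
  refine ⟨E, h1, h2, eq_top_iff.2 ?_⟩
  rw [← hT]
  exact Algebra.adjoin_mono h3

end

section Comp

variable {k : Type u} {A : Type v} [Field k] [CommRing A] [Bialgebra k A]
variable {R : Type w} [CommRing R] [Algebra k R] [Comod k A R]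
variable {S : Type w'} [CommRing S] [Algebra k S] [Comod k A S]
variable {B : Type w''} [CommRing B] [Algebra k B] [Comod k A B]

lemma map_comp_apply (j : S →ₐ[k] R) (φ : B →ₐ[k] S) (z : B ⊗[k] A) :
    Algebra.TensorProduct.map (j.comp φ) (AlgHom.id k A) z =
      Algebra.TensorProduct.map j (AlgHom.id k A)
        (Algebra.TensorProduct.map φ (AlgHom.id k A) z) := by
  rw [← AlgHom.comp_apply, ← Algebra.TensorProduct.map_comp, AlgHom.id_comp]

lemma _root_.K765.Basic.IsEquiv.comp {j : S →ₐ[k] R} {φ : B →ₐ[k] S} (hj : IsEquiv A j)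
    (hφ : IsEquiv A φ) : IsEquiv A (j.comp φ) := by
  intro b
  rw [AlgHom.comp_apply, hj, hφ, map_comp_apply]

lemma isEquiv_of_injective_comp [IsCoactAlg k A R] {j : S →ₐ[k] R} {φ : B →ₐ[k] S}
    (hj : IsEquiv A j) (hinj : Function.Injective j) (h : IsEquiv A (j.comp φ)) :
    IsEquiv A φ := by
  intro b
  have hinj' : Function.Injective (Algebra.TensorProduct.map j (AlgHom.id k A)) :=
    Module.Flat.rTensor_preserves_injective_linearMap (M := A) j.toLinearMap hinj
  apply hinj'
  rw [← hj, ← map_comp_apply, ← h b]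
  rfl

lemma isEquiv_of_surjective_comp {j : S →ₐ[k] R} {φ : B →ₐ[k] S}
    (hφ : IsEquiv A φ) (hsurj : Function.Surjective φ) (h : IsEquiv A (j.comp φ)) :
    IsEquiv A j := by
  intro s
  obtain ⟨b, rfl⟩ := hsurj s
  have := h b
  rw [AlgHom.comp_apply, map_comp_apply] at this
  rw [this, hφ]

lemma isEquiv_id : IsEquiv A (AlgHom.id k R) := by
  intro r
  rw [Algebra.TensorProduct.map_id]
  rfl

lemma isSubcomod_ker {j : S →ₐ[k] R} (hj : IsEquiv A j) :
    IsSubcomod (k := k) (A := A) ((RingHom.ker j).restrictScalars k) :=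
  ((isEquiv_iff j).1 hj).isSubcomod_ker

lemma isSubcomod_range {j : S →ₐ[k] R} (hj : IsEquiv A j) :
    IsSubcomod (k := k) (A := A) (LinearMap.range j.toLinearMap) :=
  ((isEquiv_iff j).1 hj).isSubcomod_range

end Comp

section Sym

variable {k : Type u} [Field k] (E : Type w) [AddCommGroup E] [Module k E] [Module.Finite k E]

instance isDomain_sym : IsDomain (SymmetricAlgebra k E) :=
  (SymmetricAlgebra.equivMvPolynomial (Module.finBasis k E)).toMulEquiv.isDomain _

instance finiteType_sym : Algebra.FiniteType k (SymmetricAlgebra k E) :=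
  Algebra.FiniteType.equiv (inferInstance :
    Algebra.FiniteType k (MvPolynomial (Fin (Module.finrank k E)) k))
    (SymmetricAlgebra.equivMvPolynomial (Module.finBasis k E)).symm

instance isIntegrallyClosed_sym : IsIntegrallyClosed (SymmetricAlgebra k E) := by
  haveI : IsIntegrallyClosed (MvPolynomial (Fin (Module.finrank k E)) k) := inferInstance
  exact IsIntegrallyClosed.of_equiv
    (SymmetricAlgebra.equivMvPolynomial (Module.finBasis k E)).symm.toRingEquiv

variable {k : Type u} [Field k] {R : Type w} [CommRing R] [Algebra k R]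

lemma lift_subtype_surjective {E : Submodule k R} (hE : Algebra.adjoin k (E : Set R) = ⊤) :
    Function.Surjective (SymmetricAlgebra.lift E.subtype) := by
  rw [← AlgHom.range_eq_top, eq_top_iff, ← hE]
  refine Algebra.adjoin_le fun e he => ?_
  exact ⟨SymmetricAlgebra.ι k E ⟨e, he⟩, SymmetricAlgebra.lift_ι_apply _ _⟩

end Sym

end K765.Gens
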