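import Groth.Agent.GLin.K765.StabPt
import Groth.Agent.GLin.K765.Gens
import Groth.Agent.S19407

/-!
# Stabilizers along a strongly étale morphism
-/

set_option autoImplicit false
set_option linter.unusedSectionVars false

universe u v w w' w''

open TensorProduct HopfRep GLin

namespace K765.Slice2

open Groth.Agent.Books K765.Basic K765.Tr K765.Gens

lemma algHom_eq_of_ker_le {k : Type u} [Field k] {S : Type v} [CommRing S] [Algebra k S]
    {y z : S →ₐ[k] k} (h : RingHom.ker y ≤ RingHom.ker z) : z = y := by
  refine AlgHom.ext fun s => ?_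
  have h1 : s - algebraMap k S (y s) ∈ RingHom.ker y := by
    rw [RingHom.mem_ker, map_sub, AlgHom.commutes]
    simp
  have h2 := h h1
  rw [RingHom.mem_ker, map_sub, AlgHom.commutes, sub_eq_zero] at h2
  exact h2

lemma exists_point_of_notMem {k : Type u} [Field k] [IsAlgClosed k] {R : Type v} [CommRing R]
    [Algebra k R] [Algebra.FiniteType k R] (Q : Ideal R) [hQ : Q.IsPrime] {H : R} (hH : H ∉ Q) :
    ∃ z : R →ₐ[k] k, Q ≤ RingHom.ker z ∧ z H ≠ 0 := by
  have hJ : IsJacobsonRing R := isJacobsonRing_of_finiteType (A := k) (B := R)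
  have h1 : Q.jacobson = Q := hJ.out hQ.isRadical
  by_contra! hcon
  apply hH
  rw [← h1, Ideal.jacobson, Ideal.mem_sInf]
  rintro M ⟨hQM, hM⟩
  obtain ⟨z, hz⟩ := PointsAC.exists_point_of_isMaximal k R M
  rw [← hz]
  exact hcon z (hQM.trans hz.ge)

theorem exists_lift (k : Type u) [Field k] [IsAlgClosed k] [CharZero k]
    (A : Type u) [CommRing A] [IsDomain A] [HopfAlgebra k A] [Algebra.FiniteType k A]
    (hG : HopfRep.IsLinearlyReductive k A)
    (S : Type u) [CommRing S] [IsReduced S] [Algebra k S] [Algebra.FiniteType k S]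
    [HopfRep.Comod k A S] [GLin.IsCoactAlg k A S]
    (R : Type u) [CommRing R] [IsReduced R] [Algebra k R] [Algebra.FiniteType k R]
    [HopfRep.Comod k A R] [GLin.IsCoactAlg k A R]
    (θ : S →ₐ[k] R) (hθ : IsEquiv A θ) (x : R →ₐ[k] k)
    (hdom : ∀ (P : Ideal R) [P.IsPrime], IsDomain (Localization.AtPrime P))
    (hint : ∀ (P : Ideal R) [P.IsPrime], IsIntegrallyClosed (Localization.AtPrime P))
    (het : ∀ (P : Ideal R) [P.IsPrime], RingHom.ker x ≤ P →
      letI := θ.toRingHom.toAlgebra; Algebra.IsEtaleAt S P)
    (hy : GLin.IsClosedOrbit k A (x.comp θ))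
    (hinj : ∀ g : A →ₐ[k] k, GLin.actPt k g (x.comp θ) = x.comp θ → GLin.actPt k g x = x) :
    ∃ F ∈ invariants k A S, x (θ F) ≠ 0 ∧ ∀ y' : S →ₐ[k] k, y' F ≠ 0 →
      ∃ z' : R →ₐ[k] k, z'.comp θ = y' ∧ ∀ h : A →ₐ[k] k, actPt k h y' = y' →
        actPt k h z' = z' := by
  letI iSR : Algebra S R := θ.toRingHom.toAlgebra
  haveI : IsScalarTower k S R := IsScalarTower.of_algebraMap_eq fun a => (θ.commutes a).symm
  have hto : IsScalarTower.toAlgHom k S R = θ := rfl
  have h0 : ∀ f : invariants k A S, θ f ∈ invariants k A R := fun f => hθ.map_mem_invariants f.2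
  letI i0 : Algebra (invariants k A S) (invariants k A R) :=
    (((θ.comp (invariants k A S).val).codRestrict (invariants k A R) h0).toRingHom).toAlgebra
  haveI : IsScalarTower (invariants k A S) (invariants k A R) R :=
    IsScalarTower.of_algebraMap_eq fun a => rfl
  have hxs : Function.Surjective x := fun a => ⟨algebraMap k R a, by rw [AlgHom.commutes]; rfl⟩
  haveI hmax : (RingHom.ker x.toRingHom).IsMaximal :=
    RingHom.ker_isMaximal_of_surjective _ hxs
  haveI := hdom (RingHom.ker x.toRingHom)
  haveI := hint (RingHom.ker x.toRingHom)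
  obtain ⟨f, g, hfg, h1, -, -, -, -, h2⟩ := Groth.Agent.S19407.result k A hG S R (fun s => hθ s)
    (invariants k A S) Subtype.val_injective (by
      ext s
      constructor
      · rintro ⟨t, rfl⟩
        exact t.2
      · intro hs
        exact ⟨⟨s, hs⟩, rfl⟩)
    (invariants k A R) Subtype.val_injective (by
      ext s
      constructor
      · rintro ⟨t, rfl⟩
        exact t.2
      · intro hs
        exact ⟨⟨s, hs⟩, rfl⟩)
    x (RingHom.ker x.toRingHom) rfl (het _ le_rfl) hy hinj
  set H : R := algebraMap (invariants k A R) R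
    (f * algebraMap (invariants k A S) (invariants k A R) g) with hHdef
  have hH : H = (f : R) * θ g := rfl
  refine ⟨g, g.2, ?_, ?_⟩
  · intro h3
    apply hfg
    rw [hH, map_mul, h3, mul_zero]
  · intro y' hy'
    haveI : (RingHom.ker y').IsPrime := RingHom.ker_isPrime _
    obtain ⟨Q, hQ, hHQ, hQc⟩ := h1 (RingHom.ker y') inferInstance hy'
    obtain ⟨z', hQz, hzH⟩ := exists_point_of_notMem (k := k) Q hHQ
    have hz' : z'.comp θ = y' := by
      refine algHom_eq_of_ker_le ?_
      rw [← hQc]
      exact fun a ha => hQz ha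
    refine ⟨z', hz', fun h hh => ?_⟩
    set z'' := actPt k h z' with hz''
    have e1 : ∀ s : S, z'' (θ s) = z' (θ s) := by
      intro s
      have : z''.comp θ = z'.comp θ := by
        rw [hz'', ← actPt_comp hθ, hz', hh]
      exact DFunLike.congr_fun this s
    have e2 : ∀ r : invariants k A R, z'' r = z' r := fun r => actPt_of_mem_invariants r.2 h z'
    have e3 : z'' H = z' H := by
      rw [hH, map_mul, map_mul, e1, e2]
    refine AlgHom.ext fun r => ?_
    obtain ⟨n, w, hw⟩ := h2 r
    have e4 : ∀ w : S ⊗[invariants k A S] (invariants k A R),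
        z'' (Algebra.TensorProduct.productMap (IsScalarTower.toAlgHom (invariants k A S) S R)
          (IsScalarTower.toAlgHom (invariants k A S) (invariants k A R) R) w) =
        z' (Algebra.TensorProduct.productMap (IsScalarTower.toAlgHom (invariants k A S) S R)
          (IsScalarTower.toAlgHom (invariants k A S) (invariants k A R) R) w) := by
      intro w
      induction w with
      | zero => simp
      | add a b ha hb => simp only [map_add, ha, hb]
      | tmul a b =>
        rw [Algebra.TensorProduct.productMap_apply_tmul, map_mul, map_mul]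
        congr 1
        · exact e1 a
        · exact e2 b
    have e5 := e4 w
    rw [hw, map_mul, map_mul, map_pow, map_pow, e3] at e5
    exact mul_left_cancel₀ (pow_ne_zero n hzH) e5

end K765.Slice2
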