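import Groth.Agent.GLin.K765.Tr

/-!
# Sub and quotient comodule algebras

* `comodInj j`, `isCoactAlg_inj`, `isEquiv_inj`: the comodule algebra structure induced along an injective algebra
  map with stable range;
* `comodSurj π`, `isCoactAlg_surj`, `isEquiv_surj`: along a surjective algebra map with stable kernel;
* `isSubcomod_adjoin`: the subalgebra generated by a subcomodule is a subcomodule.
-/

set_option autoImplicit false
set_option linter.unusedSectionVars false

universe u v w w'

open TensorProduct HopfRep GLin

namespace K765.SubAlg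

open Groth.Agent.Books Groth.Agent.Books.ComodBasic Groth.Agent.Books.ComodHom
open K765.Basic

section Bialg

variable {k : Type u} {A : Type v} [Field k] [CommRing A] [Bialgebra k A]
variable {R : Type w} [CommRing R] [Algebra k R] [Comod k A R] [IsCoactAlg k A R]

lemma map_injective {B : Type w'} [CommRing B] [Algebra k B] {j : B →ₐ[k] R}
    (hj : Function.Injective j) :
    Function.Injective (Algebra.TensorProduct.map j (AlgHom.id k A)) :=
  Module.Flat.rTensor_preserves_injective_linearMap (M := A) j.toLinearMap hj

section Inj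

variable {B : Type w'} [CommRing B] [Algebra k B] (j : B →ₐ[k] R) (hj : Function.Injective j)
  (h : IsSubcomod (k := k) (A := A) (LinearMap.range j.toLinearMap))

include h in
lemma coact_mem_range_map (b : B) : Comod.coact (k := k) (A := A) (j b) ∈
    LinearMap.range (j.toLinearMap.rTensor A) := by
  obtain ⟨z, hz⟩ := h (j b) ⟨b, rfl⟩
  have h1 : LinearMap.range ((LinearMap.range j.toLinearMap).subtype.rTensor A) ≤
      LinearMap.range (j.toLinearMap.rTensor A) := by
    rintro _ ⟨z, rfl⟩
    induction z with
    | zero => simp
    | tmul a b =>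
      obtain ⟨_, c, rfl⟩ := a
      exact ⟨c ⊗ₜ b, by simp⟩
    | add a b ha hb => rw [map_add]; exact add_mem ha hb
  exact h1 ⟨z, hz⟩

/-- The coaction induced along an injective algebra map with stable range. -/
noncomputable def coactInj : B →ₗ[k] B ⊗[k] A :=
  (LinearEquiv.ofInjective (j.toLinearMap.rTensor A)
    (Module.Flat.rTensor_preserves_injective_linearMap _ hj)).symm.toLinearMap ∘ₗ
      ((Comod.coact (k := k) (A := A)) ∘ₗ j.toLinearMap).codRestrict _
        (fun b => coact_mem_range_map j h b)

lemma rTensor_coactInj (b : B) : j.toLinearMap.rTensor A (coactInj j hj h b) =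
    Comod.coact (k := k) (A := A) (j b) := by
  have := (LinearEquiv.ofInjective (j.toLinearMap.rTensor A)
    (Module.Flat.rTensor_preserves_injective_linearMap _ hj)).apply_symm_apply
      (((Comod.coact (k := k) (A := A)) ∘ₗ j.toLinearMap).codRestrict _
        (fun b => coact_mem_range_map j h b) b)
  exact congrArg Subtype.val this

/-- The comodule structure induced along an injective algebra map with stable range. -/
@[reducible] noncomputable def comodInj : Comod k A B :=
  comodOfInjective j.toLinearMap hj (coactInj j hj h) (rTensor_coactInj j hj h)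

lemma isEquiv_inj : letI := comodInj j hj h; IsEquiv A j := by
  intro b
  exact (rTensor_coactInj j hj h b).symm

lemma isCoactAlg_inj : letI := comodInj j hj h; IsCoactAlg k A B := by
  letI := comodInj j hj h
  have he : ∀ b : B, Comod.coact (k := k) (A := A) (j b) =
    Algebra.TensorProduct.map j (AlgHom.id k A) (Comod.coact (k := k) (A := A) b) :=
    isEquiv_inj j hj h
  refine ⟨?_, fun f g => ?_⟩
  · apply map_injective hj
    rw [← he, map_one j, map_one (Algebra.TensorProduct.map j (AlgHom.id k A)),
      IsCoactAlg.coact_one]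
  · apply map_injective hj
    rw [← he, map_mul j, map_mul (Algebra.TensorProduct.map j (AlgHom.id k A)),
      IsCoactAlg.coact_mul, he, he]

end Inj

section Surj

variable {Q : Type w'} [CommRing Q] [Algebra k Q] (π : R →ₐ[k] Q) (hπ : Function.Surjective π)
  (h : IsSubcomod (k := k) (A := A) ((RingHom.ker π).restrictScalars k))

include h in
lemma map_coact_eq_zero {r : R} (hr : π r = 0) :
    Algebra.TensorProduct.map π (AlgHom.id k A) (Comod.coact (k := k) (A := A) r) = 0 := by
  obtain ⟨z, hz⟩ := h r hr
  rw [← hz]
  clear hz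
  induction z with
  | zero => simp
  | tmul a b =>
    obtain ⟨a, ha⟩ := a
    have ha' : π a = 0 := ha
    simp [ha']
  | add a b ha hb => rw [map_add, map_add, ha, hb, add_zero]

include h hπ in
lemma exists_coactSurj : ∃ c : Q →ₗ[k] Q ⊗[k] A, ∀ r, c (π r) =
    π.toLinearMap.rTensor A (Comod.coact (k := k) (A := A) r) := by
  let c₁ : (R ⧸ (LinearMap.ker π.toLinearMap)) →ₗ[k] Q ⊗[k] A :=
    (LinearMap.ker π.toLinearMap).liftQ
      (π.toLinearMap.rTensor A ∘ₗ Comod.coact (k := k) (A := A)) (fun r hr =>
        map_coact_eq_zero π h hr)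
  refine ⟨c₁ ∘ₗ (π.toLinearMap.quotKerEquivOfSurjective hπ).symm.toLinearMap, fun r => ?_⟩
  have : (π.toLinearMap.quotKerEquivOfSurjective hπ).symm (π r) =
      (LinearMap.ker π.toLinearMap).mkQ r := by
    rw [LinearEquiv.symm_apply_eq]
    rfl
  rw [LinearMap.comp_apply]
  erw [this]
  rfl

/-- The coaction induced along a surjective algebra map with stable kernel. -/
noncomputable def coactSurj : Q →ₗ[k] Q ⊗[k] A := (exists_coactSurj π hπ h).choose

lemma coactSurj_apply (r : R) : coactSurj π hπ h (π r) =
    π.toLinearMap.rTensor A (Comod.coact (k := k) (A := A) r) :=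
  (exists_coactSurj π hπ h).choose_spec r

/-- The comodule structure induced along a surjective algebra map with stable kernel. -/
@[reducible] noncomputable def comodSurj : Comod k A Q :=
  comodOfSurjective π.toLinearMap hπ (coactSurj π hπ h) (coactSurj_apply π hπ h)

lemma isEquiv_surj : letI := comodSurj π hπ h; IsEquiv A π := by
  intro r
  exact coactSurj_apply π hπ h r

lemma isCoactAlg_surj : letI := comodSurj π hπ h; IsCoactAlg k A Q := by
  letI := comodSurj π hπ h
  have he : ∀ b : R, Comod.coact (k := k) (A := A) (π b) =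
    Algebra.TensorProduct.map π (AlgHom.id k A) (Comod.coact (k := k) (A := A) b) :=
    isEquiv_surj π hπ h
  refine ⟨?_, fun f g => ?_⟩
  · rw [← map_one π, he, IsCoactAlg.coact_one,
      map_one (Algebra.TensorProduct.map π (AlgHom.id k A))]
  · obtain ⟨f, rfl⟩ := hπ f
    obtain ⟨g, rfl⟩ := hπ g
    rw [← map_mul π, he, he, he, IsCoactAlg.coact_mul,
      map_mul (Algebra.TensorProduct.map π (AlgHom.id k A))]

end Surj

lemma mem_range_map_subtype {W : Submodule k R} {B : Subalgebra k R}
    (hWB : W ≤ Subalgebra.toSubmodule B) {z : R ⊗[k] A}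
    (hz : z ∈ LinearMap.range (W.subtype.rTensor A)) :
    z ∈ (Algebra.TensorProduct.map B.val (AlgHom.id k A)).range := by
  obtain ⟨z, rfl⟩ := hz
  induction z with
  | zero => simp
  | tmul a b => exact ⟨(⟨a, hWB a.2⟩ : B) ⊗ₜ b, by simp⟩
  | add a b ha hb => rw [map_add]; exact add_mem ha hb

lemma isSubcomod_iff_subalgebra (B : Subalgebra k R) :
    IsSubcomod (k := k) (A := A) (Subalgebra.toSubmodule B) ↔
      ∀ b ∈ B, Comod.coact (k := k) (A := A) b ∈
        (Algebra.TensorProduct.map B.val (AlgHom.id k A)).range := by
  constructor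
  · exact fun h b hb => mem_range_map_subtype le_rfl (h b hb)
  · intro h b hb
    obtain ⟨z, hz⟩ := h b hb
    rw [← hz]
    exact ⟨z, rfl⟩

/-- The subalgebra generated by a subcomodule is a subcomodule. -/
lemma isSubcomod_adjoin {W : Submodule k R} (hW : IsSubcomod (k := k) (A := A) W) :
    IsSubcomod (k := k) (A := A)
      (Subalgebra.toSubmodule (Algebra.adjoin k (W : Set R))) := by
  rw [isSubcomod_iff_subalgebra]
  set B := Algebra.adjoin k (W : Set R) with hB
  have : B ≤ ((Algebra.TensorProduct.map B.val (AlgHom.id k A)).range).comap (coactAlgHom k A R) := by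
    rw [hB]
    refine Algebra.adjoin_le fun w hw => ?_
    exact mem_range_map_subtype (W := W) Algebra.subset_adjoin (hW w hw)
  exact fun b hb => this hb

end Bialg

end K765.SubAlg
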