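import Groth.Agent.GLin.K765.Basic
import Groth.Agent.InvQ.K701.Orbit2

/-!
# Translations of functions by rational points

`tr R g : R →ₐ[k] R`: translation of the functions on `Spec R` by the rational point `g` of the group;
`trEquiv`; subcomodules, invariants and equivariant maps in terms of translations (`A` reduced of
finite type over an algebraically closed field).
-/

set_option autoImplicit false
set_option linter.unusedSectionVars false

universe u v w

open TensorProduct HopfRep GLin

namespace K765.Tr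

open Groth.Agent.Books Groth.Agent.Books.ComodBasic Groth.Agent.Books.ComodHom
open Groth.Agent.Books.ComodInv Groth.Agent.Books.ComodPoints
open K701.Orbit K701.Orbit2 K765.Basic WithConv

section Def

variable {k : Type u} {A : Type v} [Field k] [CommRing A] [Bialgebra k A]
variable (R : Type w) [CommRing R] [Algebra k R] [Comod k A R] [IsCoactAlg k A R]

/-- Translation of functions by a rational point. -/
noncomputable def tr (g : A →ₐ[k] k) : R →ₐ[k] R :=
  (Algebra.TensorProduct.rid k k R).toAlgHom.comp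
    ((Algebra.TensorProduct.map (AlgHom.id k R) g).comp (coactAlgHom k A R))

lemma tr_apply (g : A →ₐ[k] k) (f : R) : tr R g f = Comod.act k A R g f := by
  simp only [tr, AlgHom.comp_apply, coactAlgHom_apply, act_apply]
  generalize Comod.coact (k := k) (A := A) f = z
  induction z with
  | zero => simp
  | tmul a b => simp
  | add a b ha hb => simp only [map_add, ha, hb]

variable {R}

lemma point_tr (x : R →ₐ[k] k) (g : A →ₐ[k] k) (f : R) : x (tr R g f) = actPt k g x f := by
  rw [tr_apply, orbitHom_act, actPt_apply]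

lemma comp_tr (x : R →ₐ[k] k) (g : A →ₐ[k] k) : x.comp (tr R g) = actPt k g x :=
  AlgHom.ext fun f => point_tr x g f

lemma tr_mul (g h : WithConv (A →ₐ[k] k)) (f : R) :
    tr R (g * h).ofConv f = tr R g.ofConv (tr R h.ofConv f) := by
  rw [tr_apply, tr_apply, tr_apply, ComodPoints.act_mul]
  rfl

lemma tr_one (f : R) : tr R (1 : WithConv (A →ₐ[k] k)).ofConv f = f := by
  rw [tr_apply, ComodPoints.act_one]
  rfl

lemma tr_of_mem_invariants {f : R} (hf : f ∈ invariants k A R) (g : A →ₐ[k] k) : tr R g f = f := by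
  rw [mem_invariants_iff] at hf
  rw [tr_apply, act_apply, hf]
  simp

lemma tr_mem_of_isSubcomod {W : Submodule k R} (hW : IsSubcomod (k := k) (A := A) W)
    (g : A →ₐ[k] k) {f : R} (hf : f ∈ W) : tr R g f ∈ W := by
  rw [tr_apply]
  exact act_mem_of_isSubcomod hW g hf

lemma tr_mem_of_isSubcomod_ideal {I : Ideal R}
    (hI : IsSubcomod (k := k) (A := A) (I.restrictScalars k))
    (g : A →ₐ[k] k) {f : R} (hf : f ∈ I) : tr R g f ∈ I :=
  tr_mem_of_isSubcomod hI g (show f ∈ I.restrictScalars k from hf)

variable {S : Type*} [CommRing S] [Algebra k S] [Comod k A S] [IsCoactAlg k A S]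

lemma map_tr {φ : S →ₐ[k] R} (hφ : IsEquiv A φ) (g : A →ₐ[k] k) (s : S) :
    φ (tr S g s) = tr R g (φ s) := by
  simp only [tr, AlgHom.comp_apply, coactAlgHom_apply]
  rw [hφ s]
  generalize Comod.coact (k := k) (A := A) s = z
  induction z with
  | zero => simp
  | tmul a b => simp
  | add a b ha hb => simp only [map_add, ha, hb]

end Def

section Hopf

variable {k : Type u} {A : Type v} [Field k] [CommRing A] [HopfAlgebra k A]
variable {R : Type w} [CommRing R] [Algebra k R] [Comod k A R] [IsCoactAlg k A R]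

lemma tr_inv_tr (g : WithConv (A →ₐ[k] k)) (f : R) : tr R (g⁻¹).ofConv (tr R g.ofConv f) = f := by
  rw [← tr_mul, inv_mul_cancel, tr_one]

lemma tr_tr_inv (g : WithConv (A →ₐ[k] k)) (f : R) : tr R g.ofConv (tr R (g⁻¹).ofConv f) = f := by
  rw [← tr_mul, mul_inv_cancel, tr_one]

variable (R) in
/-- Translation as an automorphism. -/
noncomputable def trEquiv (g : WithConv (A →ₐ[k] k)) : R ≃ₐ[k] R :=
  AlgEquiv.ofAlgHom (tr R g.ofConv) (tr R (g⁻¹).ofConv) (AlgHom.ext fun f => tr_tr_inv g f)
    (AlgHom.ext fun f => tr_inv_tr g f)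

@[simp] lemma trEquiv_apply (g : WithConv (A →ₐ[k] k)) (f : R) :
    trEquiv R g f = tr R g.ofConv f := rfl

@[simp] lemma trEquiv_symm_apply (g : WithConv (A →ₐ[k] k)) (f : R) :
    (trEquiv R g).symm f = tr R (g⁻¹).ofConv f := rfl

/-- The inverse point (without `WithConv`). -/
noncomputable def inv (g : A →ₐ[k] k) : A →ₐ[k] k := ((toConv g)⁻¹).ofConv

lemma tr_inv (g : A →ₐ[k] k) (f : R) : tr R (inv g) (tr R g f) = f := tr_inv_tr (toConv g) f
lemma tr_tr_inv' (g : A →ₐ[k] k) (f : R) : tr R g (tr R (inv g) f) = f := tr_tr_inv (toConv g) f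

lemma actPt_inv (g : A →ₐ[k] k) (x : R →ₐ[k] k) : actPt k (inv g) (actPt k g x) = x :=
  actPt_inv_actPt x (toConv g)

lemma actPt_inv' (g : A →ₐ[k] k) (x : R →ₐ[k] k) : actPt k g (actPt k (inv g) x) = x :=
  actPt_actPt_inv x (toConv g)

lemma actPt_injective (g : A →ₐ[k] k) {x y : R →ₐ[k] k} (h : actPt k g x = actPt k g y) :
    x = y := by
  rw [← actPt_inv g x, h, actPt_inv]

lemma inv_inv' (g : A →ₐ[k] k) : inv (inv g) = g := by
  simp [inv]

end Hopf

section Points

variable {k : Type u} {A : Type v} [Field k] [IsAlgClosed k] [CommRing A] [HopfAlgebra k A]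
  [Algebra.FiniteType k A] [IsReduced A]
variable {R : Type w} [CommRing R] [Algebra k R] [Comod k A R] [IsCoactAlg k A R]

lemma sep (a : A) (h : ∀ g : A →ₐ[k] k, g a = 0) : a = 0 :=
  PointsAC.eq_zero_of_forall_point k A a h

/-- Subspaces stable under the rational points are subcomodules. -/
lemma isSubcomod_of_tr (W : Submodule k R) (hW : ∀ g : A →ₐ[k] k, ∀ f ∈ W, tr R g f ∈ W) :
    IsSubcomod (k := k) (A := A) W :=
  isSubcomod_of_stable sep W fun g f hf => by
    rw [← tr_apply]
    exact hW g f hf

lemma isSubcomod_ideal_of_tr (I : Ideal R) (hI : ∀ g : A →ₐ[k] k, ∀ f ∈ I, tr R g f ∈ I) :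
    IsSubcomod (k := k) (A := A) (I.restrictScalars k) :=
  isSubcomod_of_tr _ hI

/-- Equality in `V ⊗ A` can be tested at the rational points. -/
lemma eq_of_forall_point {V : Type*} [AddCommGroup V] [Module k V] {z z' : V ⊗[k] A}
    (h : ∀ g : A →ₐ[k] k, g.toLinearMap.lTensor V z = g.toLinearMap.lTensor V z') : z = z' := by
  rw [← sub_eq_zero]
  refine PointsAC.tmul_eq_zero_of_forall (fun g : A →ₐ[k] k => g.toLinearMap) sep _ fun g => ?_
  rw [map_sub, h g, sub_self, map_zero]

lemma mem_invariants_of_tr {f : R} (h : ∀ g : A →ₐ[k] k, tr R g f = f) :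
    f ∈ invariants k A R := by
  rw [mem_invariants_iff]
  refine eq_of_forall_point fun g => ?_
  apply (TensorProduct.rid k R).injective
  have := h g
  rw [tr_apply, act_apply] at this
  rw [this]
  simp

lemma mem_invariants_iff_tr {f : R} : f ∈ invariants k A R ↔ ∀ g : A →ₐ[k] k, tr R g f = f :=
  ⟨fun h g => tr_of_mem_invariants h g, mem_invariants_of_tr⟩

/-- Equivariance can be tested at the rational points. -/
lemma isEquiv_of_tr {S : Type*} [CommRing S] [Algebra k S] [Comod k A S] [IsCoactAlg k A S]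
    {φ : S →ₐ[k] R} (h : ∀ (g : A →ₐ[k] k) (s : S), φ (tr S g s) = tr R g (φ s)) :
    IsEquiv A φ := by
  intro s
  refine eq_of_forall_point fun g => ?_
  apply (TensorProduct.rid k R).injective
  have := h g s
  rw [tr_apply, act_apply, tr_apply, act_apply] at this
  rw [← this]
  generalize Comod.coact (k := k) (A := A) s = z
  induction z with
  | zero => simp
  | tmul a b => simp
  | add a b ha hb => simp only [map_add, ha, hb]

end Points

end K765.Tr
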