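import Groth.Agent.GLin.K765.SubAlg
import Mathlib.LinearAlgebra.SymmetricAlgebra.Basis

/-!
# Construction of comodule algebras: symmetric algebras and localisations at invariants

* `comodOfEpi`: a coaction on an algebra `L` determined by its restriction along a linear map `V → L` from a comodule;
* `symComod`, `isCoactAlg_sym`, `isComodHom_ι`, `isEquiv_lift`: the symmetric algebra of a comodule;
* `locComod`, `isCoactAlg_loc`, `isEquiv_loc`, `isEquiv_locLift`: the localisation of a comodule algebra at a
  submonoid of invariants; `exists_invariant_of_loc`: its invariants.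
-/

set_option autoImplicit false
set_option linter.unusedSectionVars false

universe u v w w' w''

open TensorProduct HopfRep GLin

namespace K765.Build

open Groth.Agent.Books Groth.Agent.Books.ComodBasic Groth.Agent.Books.ComodHom
open K765.Basic

variable {k : Type u} {A : Type v} [Field k] [CommRing A] [Bialgebra k A]

section Epi

variable {V : Type w} [AddCommGroup V] [Module k V] [Comod k A V]
variable {L : Type w'} [CommRing L] [Algebra k L]
variable (ι : V →ₗ[k] L) (c : L →ₐ[k] L ⊗[k] A)
  (hc : ∀ v, c (ι v) = ι.rTensor A (Comod.coact (k := k) (A := A) v))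

include hc in
lemma assoc_aux (z : V ⊗[k] A) :
    TensorProduct.assoc k L A A (c.toLinearMap.rTensor A (ι.rTensor A z)) =
      ι.rTensor (A ⊗[k] A) (TensorProduct.assoc k V A A
        ((Comod.coact (k := k) (A := A) (V := V)).rTensor A z)) := by
  induction z with
  | zero => simp
  | add a b ha hb => simp only [map_add, ha, hb]
  | tmul v a =>
    rw [LinearMap.rTensor_tmul, LinearMap.rTensor_tmul, LinearMap.rTensor_tmul,
      AlgHom.toLinearMap_apply, hc]
    generalize Comod.coact (k := k) (A := A) v = w
    induction w with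
    | zero => simp
    | add a b ha hb => simp only [map_add, TensorProduct.add_tmul, ha, hb]
    | tmul v b => simp

include hc in
lemma coassoc_of (hepi : ∀ f g : L →ₐ[k] L ⊗[k] (A ⊗[k] A), (∀ v, f (ι v) = g (ι v)) → f = g) :
    (TensorProduct.assoc k L A A).toLinearMap ∘ₗ c.toLinearMap.rTensor A ∘ₗ c.toLinearMap =
      (CoalgebraStruct.comul (R := k) (A := A)).lTensor L ∘ₗ c.toLinearMap := by
  have hL : ∀ z : L ⊗[k] A, Algebra.TensorProduct.assoc k k k L A A
      (Algebra.TensorProduct.map c (AlgHom.id k A) z) =
      TensorProduct.assoc k L A A (c.toLinearMap.rTensor A z) := by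
    intro z
    rfl
  have hR : ∀ z : L ⊗[k] A, Algebra.TensorProduct.map (AlgHom.id k L)
      (Bialgebra.comulAlgHom k A) z = (CoalgebraStruct.comul (R := k) (A := A)).lTensor L z := by
    intro z
    rfl
  have key := hepi ((((Algebra.TensorProduct.assoc k k k L A A).toAlgHom.comp
    (Algebra.TensorProduct.map c (AlgHom.id k A)))).comp c)
    ((Algebra.TensorProduct.map (AlgHom.id k L) (Bialgebra.comulAlgHom k A)).comp c)
    (fun v => by
      change Algebra.TensorProduct.assoc k k k L A A
        (Algebra.TensorProduct.map c (AlgHom.id k A) (c (ι v))) =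
        Algebra.TensorProduct.map (AlgHom.id k L) (Bialgebra.comulAlgHom k A) (c (ι v))
      rw [hL, hR, hc, assoc_aux ι c hc]
      have h1 := LinearMap.congr_fun (Comod.coassoc (k := k) (A := A) (V := V)) v
      simp only [LinearMap.comp_apply, LinearEquiv.coe_coe] at h1
      have h3 : ∀ z : V ⊗[k] A, ι.rTensor (A ⊗[k] A)
          ((CoalgebraStruct.comul (R := k) (A := A)).lTensor V z) =
          (CoalgebraStruct.comul (R := k) (A := A)).lTensor L (ι.rTensor A z) := by
        intro z
        induction z with
        | zero => simp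
        | add a b ha hb => simp only [map_add, ha, hb]
        | tmul v b => simp
      rw [h1, h3])
  exact LinearMap.ext fun l => DFunLike.congr_fun key l

include hc in
lemma counit_of (hepi : ∀ f g : L →ₐ[k] L ⊗[k] k, (∀ v, f (ι v) = g (ι v)) → f = g) :
    (CoalgebraStruct.counit (R := k) (A := A)).lTensor L ∘ₗ c.toLinearMap =
      (TensorProduct.mk k L k).flip 1 := by
  have hR : ∀ z : L ⊗[k] A, Algebra.TensorProduct.map (AlgHom.id k L)
      (Bialgebra.counitAlgHom k A) z = (CoalgebraStruct.counit (R := k) (A := A)).lTensor L z := by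
    intro z
    rfl
  have key := hepi ((Algebra.TensorProduct.map (AlgHom.id k L) (Bialgebra.counitAlgHom k A)).comp c)
    Algebra.TensorProduct.includeLeft
    (fun v => by
      rw [AlgHom.comp_apply, hR, hc]
      have h1 := LinearMap.congr_fun (Comod.counit_comp (k := k) (A := A) (V := V)) v
      simp only [LinearMap.comp_apply, LinearMap.flip_apply, TensorProduct.mk_apply] at h1
      rw [← LinearMap.comp_apply, LinearMap.lTensor_comp_rTensor, ← LinearMap.rTensor_comp_lTensor,
        LinearMap.comp_apply, h1, LinearMap.rTensor_tmul]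
      rfl)
  exact LinearMap.ext fun l => DFunLike.congr_fun key l

/-- The comodule structure on an algebra determined by its restriction to a generating comodule. -/
@[reducible] noncomputable def comodOfEpi
    (h1 : ∀ f g : L →ₐ[k] L ⊗[k] (A ⊗[k] A), (∀ v, f (ι v) = g (ι v)) → f = g)
    (h2 : ∀ f g : L →ₐ[k] L ⊗[k] k, (∀ v, f (ι v) = g (ι v)) → f = g) : Comod k A L where
  coact := c.toLinearMap
  coassoc := coassoc_of ι c hc h1
  counit_comp := counit_of ι c hc h2

lemma isCoactAlg_ofEpi
    (h1 : ∀ f g : L →ₐ[k] L ⊗[k] (A ⊗[k] A), (∀ v, f (ι v) = g (ι v)) → f = g)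
    (h2 : ∀ f g : L →ₐ[k] L ⊗[k] k, (∀ v, f (ι v) = g (ι v)) → f = g) :
    letI := comodOfEpi ι c hc h1 h2
    IsCoactAlg k A L := by
  letI := comodOfEpi ι c hc h1 h2
  exact ⟨map_one c, map_mul c⟩

end Epi

section Sym

variable (E : Type w) [AddCommGroup E] [Module k E] [Comod k A E]

variable (k A) in
/-- The coaction on the symmetric algebra. -/
noncomputable def symCoact : SymmetricAlgebra k E →ₐ[k] SymmetricAlgebra k E ⊗[k] A :=
  SymmetricAlgebra.lift ((SymmetricAlgebra.ι k E).rTensor A ∘ₗ Comod.coact (k := k) (A := A))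

lemma symCoact_ι (e : E) : symCoact k A E (SymmetricAlgebra.ι k E e) =
    (SymmetricAlgebra.ι k E).rTensor A (Comod.coact (k := k) (A := A) e) := by
  rw [symCoact, SymmetricAlgebra.lift_ι_apply]
  rfl

variable (k A) in
/-- The comodule structure on the symmetric algebra. -/
@[reducible] noncomputable def symComod : Comod k A (SymmetricAlgebra k E) :=
  comodOfEpi (SymmetricAlgebra.ι k E) (symCoact k A E) (symCoact_ι E)
    (fun _ _ h => SymmetricAlgebra.algHom_ext (LinearMap.ext h))
    (fun _ _ h => SymmetricAlgebra.algHom_ext (LinearMap.ext h))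

variable (k A) in
lemma isCoactAlg_sym : letI := symComod k A E; IsCoactAlg k A (SymmetricAlgebra k E) :=
  isCoactAlg_ofEpi _ _ _ _ _

lemma isComodHom_ι : letI := symComod k A E; IsComodHom k A (SymmetricAlgebra.ι k E) := by
  intro e
  exact symCoact_ι E e

variable {R : Type w'} [CommRing R] [Algebra k R] [Comod k A R] [IsCoactAlg k A R]

variable {E} in
lemma isEquiv_lift {f : E →ₗ[k] R} (hf : IsComodHom k A f) :
    letI := symComod k A E
    IsEquiv A (SymmetricAlgebra.lift f) := by
  letI := symComod k A E
  have key : (coactAlgHom k A R).comp (SymmetricAlgebra.lift f) =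
      (Algebra.TensorProduct.map (SymmetricAlgebra.lift f) (AlgHom.id k A)).comp
        (symCoact k A E) := by
    refine SymmetricAlgebra.algHom_ext (LinearMap.ext fun e => ?_)
    change Comod.coact (k := k) (A := A) (SymmetricAlgebra.lift f (SymmetricAlgebra.ι k E e)) =
      Algebra.TensorProduct.map (SymmetricAlgebra.lift f) (AlgHom.id k A)
        (symCoact k A E (SymmetricAlgebra.ι k E e))
    rw [SymmetricAlgebra.lift_ι_apply, symCoact_ι, hf e]
    generalize Comod.coact (k := k) (A := A) e = z
    induction z with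
    | zero => simp
    | add a b ha hb => simp only [map_add, ha, hb]
    | tmul v b => simp
  exact fun s => DFunLike.congr_fun key s

end Sym

section Loc

variable {R : Type w} [CommRing R] [Algebra k R] [Comod k A R] [IsCoactAlg k A R]
variable (M : Submonoid R) (hM : ∀ m ∈ M, m ∈ invariants k A R)
variable (L : Type w') [CommRing L] [Algebra k L] [Algebra R L] [IsScalarTower k R L]
  [IsLocalization M L]

include hM in
lemma isUnit_loc (m : M) : IsUnit (((Algebra.TensorProduct.map (IsScalarTower.toAlgHom k R L)
    (AlgHom.id k A)).comp (coactAlgHom k A R)) m) := by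
  have h1 : (((Algebra.TensorProduct.map (IsScalarTower.toAlgHom k R L)
      (AlgHom.id k A)).comp (coactAlgHom k A R)) m) = (algebraMap R L m) ⊗ₜ[k] (1 : A) := by
    rw [AlgHom.comp_apply, coactAlgHom_apply, (mem_invariants_iff k A R _).1 (hM m m.2)]
    simp
  rw [h1]
  exact (IsLocalization.map_units L m).map
    (Algebra.TensorProduct.includeLeft : L →ₐ[k] L ⊗[k] A)

/-- The coaction on a localisation at invariants. -/
noncomputable def locCoact : L →ₐ[k] L ⊗[k] A :=
  IsLocalization.liftAlgHom (M := M) (f := (Algebra.TensorProduct.map (IsScalarTower.toAlgHom k R L)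
    (AlgHom.id k A)).comp (coactAlgHom k A R)) (isUnit_loc M hM L)

lemma locCoact_algebraMap (r : R) : locCoact M hM L (algebraMap R L r) =
    Algebra.TensorProduct.map (IsScalarTower.toAlgHom k R L) (AlgHom.id k A)
      (Comod.coact (k := k) (A := A) r) := by
  rw [locCoact, IsLocalization.liftAlgHom_apply, IsLocalization.lift_eq]
  rfl

include M in
lemma algHom_ext_loc {Q : Type*} [Semiring Q] [Algebra k Q] (f g : L →ₐ[k] Q)
    (h : ∀ r : R, f (algebraMap R L r) = g (algebraMap R L r)) : f = g :=
  IsLocalization.algHom_ext M (AlgHom.ext h)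

/-- The comodule structure on a localisation at invariants. -/
@[reducible] noncomputable def locComod : Comod k A L :=
  comodOfEpi (IsScalarTower.toAlgHom k R L).toLinearMap (locCoact M hM L)
    (locCoact_algebraMap M hM L)
    (fun f g h => algHom_ext_loc M L f g h) (fun f g h => algHom_ext_loc M L f g h)

lemma isCoactAlg_loc : letI := locComod M hM L; IsCoactAlg k A L :=
  isCoactAlg_ofEpi _ _ _ _ _

lemma isEquiv_loc : letI := locComod M hM L; IsEquiv A (IsScalarTower.toAlgHom k R L) := by
  intro r
  exact locCoact_algebraMap M hM L r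

/-- An algebra map out of a localisation is equivariant when its restriction is. -/
lemma isEquiv_of_comp {Q : Type w''} [CommRing Q] [Algebra k Q] [Comod k A Q] [IsCoactAlg k A Q]
    [Comod k A L] [IsCoactAlg k A L] (hL : IsEquiv A (IsScalarTower.toAlgHom k R L))
    (φ : L →ₐ[k] Q) (hφ : IsEquiv A (φ.comp (IsScalarTower.toAlgHom k R L))) (M : Submonoid R)
    [IsLocalization M L] : IsEquiv A φ := by
  have key : (coactAlgHom k A Q).comp φ =
      (Algebra.TensorProduct.map φ (AlgHom.id k A)).comp (coactAlgHom k A L) := by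
    refine algHom_ext_loc M L _ _ fun r => ?_
    have h1 := hφ r
    have h2 := hL r
    change Comod.coact (k := k) (A := A) (φ (algebraMap R L r)) = _ at h1
    change Comod.coact (k := k) (A := A) (algebraMap R L r) = _ at h2
    change Comod.coact (k := k) (A := A) (φ (algebraMap R L r)) =
      Algebra.TensorProduct.map φ (AlgHom.id k A)
        (Comod.coact (k := k) (A := A) (algebraMap R L r))
    rw [h1, h2, ← AlgHom.comp_apply, ← Algebra.TensorProduct.map_comp, AlgHom.id_comp]
  exact fun s => DFunLike.congr_fun key s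

include M in
lemma exists_mul_eq_zero_finset (T : Finset R) (hT : ∀ t ∈ T, algebraMap R L t = 0) :
    ∃ m ∈ M, ∀ t ∈ T, m * t = 0 := by
  classical
  induction T using Finset.induction_on with
  | empty => exact ⟨1, M.one_mem, by simp⟩
  | insert a T ha ih =>
    obtain ⟨m, hm, h⟩ := ih fun t ht => hT t (Finset.mem_insert_of_mem ht)
    obtain ⟨⟨m', hm'⟩, h'⟩ := (IsLocalization.map_eq_zero_iff M L a).1
      (hT a (Finset.mem_insert_self _ _))
    refine ⟨m' * m, M.mul_mem hm' hm, fun t ht => ?_⟩
    rcases Finset.mem_insert.1 ht with rfl | ht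
    · rw [mul_comm m' m, mul_assoc, h', mul_zero]
    · rw [mul_assoc, h t ht, mul_zero]

include M in
/-- The kernel of `R ⊗ A → L ⊗ A`. -/
lemma exists_tmul_mul_eq_zero (z : R ⊗[k] A)
    (hz : (IsScalarTower.toAlgHom k R L).toLinearMap.rTensor A z = 0) :
    ∃ m ∈ M, (m ⊗ₜ[k] (1 : A)) * z = 0 := by
  obtain ⟨F, hF, hFz⟩ := exists_finite_slice z
  let K : Submodule k R := LinearMap.ker (IsScalarTower.toAlgHom k R L).toLinearMap
  have h1 : ∀ φ : A →ₗ[k] k, slice R φ z ∈ F ⊓ K := by
    intro φ
    refine ⟨hFz φ, ?_⟩
    have h2 := slice_rTensor φ (IsScalarTower.toAlgHom k R L).toLinearMap z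
    rw [hz, map_zero] at h2
    exact h2.symm
  haveI : Module.Finite k (F ⊓ K : Submodule k R) :=
    Submodule.finiteDimensional_of_le (S₂ := F) inf_le_left
  obtain ⟨T, hT⟩ := Module.Finite.iff_fg.mp (inferInstance : Module.Finite k (F ⊓ K : Submodule k R))
  obtain ⟨m, hm, h⟩ := exists_mul_eq_zero_finset M L T (fun t ht => by
    have : t ∈ F ⊓ K := by rw [← hT]; exact Submodule.subset_span ht
    exact this.2)
  refine ⟨m, hm, eq_zero_of_slice fun φ => ?_⟩
  have h3 : ∀ z : R ⊗[k] A, slice R φ ((m ⊗ₜ[k] (1 : A)) * z) = m * slice R φ z := by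
    intro z
    induction z with
    | zero => simp
    | add a b ha hb => simp only [map_add, mul_add, ha, hb]
    | tmul r a => simp
  rw [h3]
  have h4 : F ⊓ K ≤ LinearMap.ker (LinearMap.mulLeft k m) := by
    rw [← hT, Submodule.span_le]
    intro t ht
    exact h t ht
  exact h4 (h1 φ)

include hM in
/-- The invariants of a localisation at invariants. -/
lemma exists_invariant_of_loc [Comod k A L] [IsCoactAlg k A L]
    (hL : IsEquiv A (IsScalarTower.toAlgHom k R L)) {x : L} (hx : x ∈ invariants k A L) :
    ∃ a ∈ invariants k A R, ∃ s ∈ M, x * algebraMap R L s = algebraMap R L a := by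
  obtain ⟨⟨b, s⟩, hb⟩ := IsLocalization.surj M x
  have hb' : x * algebraMap R L s = algebraMap R L b := hb
  have hs : algebraMap R L s ∈ invariants k A L := by
    rw [mem_invariants_iff]
    have := hL s
    change Comod.coact (k := k) (A := A) (algebraMap R L s) = _ at this
    rw [this, (mem_invariants_iff k A R _).1 (hM s s.2)]
    simp
  have hbL : algebraMap R L b ∈ invariants k A L := by
    rw [← hb']
    exact mul_mem hx hs
  obtain ⟨m, hm, h⟩ := exists_tmul_mul_eq_zero M L
    (Comod.coact (k := k) (A := A) b - b ⊗ₜ[k] (1 : A)) (by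
      have h1 := hL b
      change Comod.coact (k := k) (A := A) (algebraMap R L b) =
        (IsScalarTower.toAlgHom k R L).toLinearMap.rTensor A (Comod.coact (k := k) (A := A) b) at h1
      rw [map_sub, ← h1, (mem_invariants_iff k A L _).1 hbL, LinearMap.rTensor_tmul]
      exact sub_self _)
  refine ⟨m * b, ?_, m * s, M.mul_mem hm s.2, ?_⟩
  · rw [mem_invariants_iff, IsCoactAlg.coact_mul, (mem_invariants_iff k A R _).1 (hM m hm)]
    rw [mul_sub, sub_eq_zero, Algebra.TensorProduct.tmul_mul_tmul, one_mul] at h
    exact h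
  · rw [map_mul, map_mul, ← hb']
    ring

end Loc

end K765.Build
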