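import Groth.Agent.GLin.K765.Build
import Groth.Agent.GIT.K690.Orbits
import Mathlib.RingTheory.ZariskisMainTheorem

/-!
# The quasi-finite locus of an equivariant map

* `quasiFiniteAt_of_ker_le`: quasi-finiteness at a prime from quasi-finiteness of a quotient through which the fibre
  factors;
* `quasiFinite_away`: a localisation all of whose primes are quasi-finite points is quasi-finite;
* `exists_invariant_quasiFinite`: an invariant `f ≡ 1 (mod Q)` with `R[1/f]` quasi-finite over `B`, for a stable ideal
  `Q` at whose points `R` is quasi-finite.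
-/

set_option autoImplicit false
set_option linter.unusedSectionVars false

universe u v w w'

open TensorProduct HopfRep GLin

namespace K765.QF

open Groth.Agent.Books Groth.Agent.Books.ComodBasic Groth.Agent.Books.ComodHom
open K765.Basic K765.Tr Algebra

section Gen

variable {B P : Type*} [CommRing B] [CommRing P] [Algebra B P]

/-- Quasi-finiteness at `q` when the fibre of `q` lies in a quasi-finite closed subscheme. -/
theorem quasiFiniteAt_of_ker_le [Algebra.FiniteType B P] (Q : Ideal P)
    [Algebra.QuasiFinite B (P ⧸ Q)] (q : Ideal P) [q.IsPrime]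
    (h : Q ≤ (q.under B).map (algebraMap B P)) : Algebra.QuasiFiniteAt B q := by
  haveI : Algebra.WeaklyQuasiFiniteAt B q := by
    rw [Algebra.weaklyQuasiFiniteAt_iff]
    set T := Localization.AtPrime q ⧸ (q.under B).map (algebraMap B (Localization.AtPrime q))
    let f₀ : P →ₐ[B] T := (Ideal.Quotient.mkₐ B _).comp
      (IsScalarTower.toAlgHom B P (Localization.AtPrime q))
    have hf₀ : ∀ a ∈ Q, f₀ a = 0 := by
      intro a ha
      change Ideal.Quotient.mk _ (algebraMap P (Localization.AtPrime q) a) = 0
      rw [Ideal.Quotient.eq_zero_iff_mem, IsScalarTower.algebraMap_eq B P (Localization.AtPrime q),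
        ← Ideal.map_map]
      exact Ideal.mem_map_of_mem _ (h ha)
    let f : (P ⧸ Q) →ₐ[B] T := Ideal.Quotient.liftₐ Q f₀ hf₀
    refine Algebra.QuasiFinite.of_forall_exists_mul_mem_range f fun x => ?_
    obtain ⟨x, rfl⟩ := Ideal.Quotient.mk_surjective x
    obtain ⟨r, s, rfl⟩ := IsLocalization.exists_mk'_eq q.primeCompl x
    refine ⟨Ideal.Quotient.mk Q s, ?_, Ideal.Quotient.mk Q r, ?_⟩
    · change IsUnit (Ideal.Quotient.mk _ (algebraMap P (Localization.AtPrime q) s))
      exact (IsLocalization.map_units (Localization.AtPrime q) s).map _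
    · change Ideal.Quotient.mk _ (algebraMap P (Localization.AtPrime q) r) =
        Ideal.Quotient.mk _ (IsLocalization.mk' _ r s) *
          Ideal.Quotient.mk _ (algebraMap P (Localization.AtPrime q) s)
      rw [← map_mul, IsLocalization.mk'_spec]
  exact Algebra.QuasiFiniteAt.of_weaklyQuasiFiniteAt q

/-- An algebra of finite type which is quasi-finite at all primes is quasi-finite. -/
theorem quasiFinite_of_forall [Algebra.FiniteType B P]
    (h : ∀ q : PrimeSpectrum P, Algebra.QuasiFiniteAt B q.asIdeal) : Algebra.QuasiFinite B P := by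
  rw [Algebra.QuasiFinite.iff_finite_comap_preimage_singleton]
  intro x
  let F : Set (PrimeSpectrum P) := PrimeSpectrum.comap (algebraMap B P) ⁻¹' {x}
  haveI hdisc : DiscreteTopology F := by
    rw [discreteTopology_iff_isOpen_singleton]
    rintro ⟨q, hq⟩
    have hq' : PrimeSpectrum.comap (algebraMap B P) q = x := hq
    subst hq'
    exact (Algebra.quasiFiniteAt_iff_isOpen_singleton_fiber q).1 (h q)
  haveI hcomp : CompactSpace F :=
    (PrimeSpectrum.preimageHomeomorphFiber B P x).symm.compactSpace
  have : Finite F := finite_of_compact_of_discrete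
  exact this

/-- A localisation all of whose primes are quasi-finite points is quasi-finite. -/
theorem quasiFinite_away [Algebra.FiniteType B P] (f : P) (L : Type*) [CommRing L] [Algebra P L]
    [Algebra B L] [IsScalarTower B P L] [IsLocalization.Away f L]
    (h : ∀ q : PrimeSpectrum P, f ∉ q.asIdeal → Algebra.QuasiFiniteAt B q.asIdeal) :
    Algebra.QuasiFinite B L := by
  haveI : Algebra.FiniteType P L := IsLocalization.finiteType_of_monoid_fg (.powers f) L
  haveI : Algebra.FiniteType B L := Algebra.FiniteType.trans (S := P) inferInstance inferInstance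
  refine quasiFinite_of_forall fun q => ?_
  set p := PrimeSpectrum.comap (algebraMap P L) q with hp
  have hf : f ∉ p.asIdeal := by
    intro hf
    have h1 : algebraMap P L f ∈ q.asIdeal := hf
    exact q.2.ne_top (Ideal.eq_top_of_isUnit_mem _ h1 (IsLocalization.Away.algebraMap_isUnit f))
  haveI := h p hf
  haveI : q.asIdeal.LiesOver p.asIdeal := ⟨rfl⟩
  exact Algebra.QuasiFiniteAt.of_surjectiveOnStalks_of_liesOver p.asIdeal
    (RingHom.surjectiveOnStalks_of_isLocalization (.powers f) L) q.asIdeal

end Gen

section Equiv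

variable {k : Type u} {A : Type u} [Field k] [IsAlgClosed k] [CommRing A] [HopfAlgebra k A]
  [Algebra.FiniteType k A] [IsReduced A]
variable {B : Type u} [CommRing B] [Algebra k B] [Comod k A B] [IsCoactAlg k A B]
variable {P : Type u} [CommRing P] [Algebra k P] [Comod k A P] [IsCoactAlg k A P]
variable [Algebra B P] [IsScalarTower k B P]

/-- The elements witnessing quasi-finiteness. -/
def good (B P : Type*) [CommRing B] [CommRing P] [Algebra B P] : Set P :=
  {r | ∀ x : P, ∃ m : ℕ, IsIntegral B (r ^ m * x)}

lemma tr_mem_good (he : IsEquiv A (IsScalarTower.toAlgHom k B P)) (g : A →ₐ[k] k) {r : P}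
    (hr : r ∈ good B P) : tr P g r ∈ good B P := by
  intro x
  obtain ⟨m, hm⟩ := hr (tr P (inv g) x)
  refine ⟨m, ?_⟩
  have h1 : tr P g (r ^ m * tr P (inv g) x) = tr P g r ^ m * x := by
    rw [map_mul, map_pow, tr_tr_inv']
  rw [← h1]
  refine hm.map_of_comp_eq (tr B g).toRingHom (tr P g).toRingHom ?_
  ext s
  exact map_tr he g s

lemma exists_good [Algebra.FiniteType B P] (q : Ideal P) [q.IsPrime]
    [Algebra.QuasiFiniteAt B q] : ∃ r ∈ good B P, r ∉ q := by
  obtain ⟨r, hr, h⟩ := Algebra.zariskisMainProperty_iff'.mp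
    (Algebra.ZariskisMainProperty.of_finiteType (R := B) q)
  exact ⟨r, h, hr⟩

lemma quasiFiniteAt_of_good [Algebra.FiniteType B P] (q : Ideal P) [q.IsPrime] {r : P}
    (hr : r ∈ good B P) (hrq : r ∉ q) : Algebra.QuasiFiniteAt B q :=
  Algebra.ZariskisMainProperty.quasiFiniteAt q
    (Algebra.zariskisMainProperty_iff'.mpr ⟨r, hrq, hr⟩)

/-- The ideal of the complement of the quasi-finite locus is stable. -/
lemma isSubcomod_span_good (he : IsEquiv A (IsScalarTower.toAlgHom k B P)) :
    IsSubcomod (k := k) (A := A) ((Ideal.span (good B P)).restrictScalars k) := by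
  refine isSubcomod_ideal_of_tr _ fun g f hf => ?_
  have : Ideal.span (good B P) ≤ (Ideal.span (good B P)).comap (tr P g) := by
    rw [Ideal.span_le]
    intro r hr
    exact Ideal.subset_span (tr_mem_good he g hr)
  exact this hf

theorem exists_invariant_quasiFinite (hG : IsLinearlyReductive k A) [Algebra.FiniteType B P]
    (he : IsEquiv A (IsScalarTower.toAlgHom k B P)) (Q : Ideal P)
    (hQ : IsSubcomod (k := k) (A := A) (Q.restrictScalars k))
    (h : ∀ q : Ideal P, ∀ _ : q.IsPrime, Q ≤ q → Algebra.QuasiFiniteAt B q) :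
    ∃ f ∈ invariants k A P, 1 - f ∈ Q ∧
      ∀ q : PrimeSpectrum P, f ∉ q.asIdeal → Algebra.QuasiFiniteAt B q.asIdeal := by
  have htop : Ideal.span (good B P) ⊔ Q = ⊤ := by
    by_contra hne
    obtain ⟨m, hm, hle⟩ := Ideal.exists_le_maximal _ hne
    haveI := h m hm.isPrime (le_sup_right.trans hle)
    obtain ⟨r, hr, hrm⟩ := exists_good (B := B) m
    exact hrm (hle (Ideal.mem_sup_left (Ideal.subset_span hr)))
  obtain ⟨f, hf, hf1, hf2⟩ := K690.Orbits.exists_invariant_sub_mem hG _ Q
    (isSubcomod_span_good he) hQ htop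
  refine ⟨f, hf, hf2, fun q hq => ?_⟩
  obtain ⟨r, hr, hrq⟩ : ∃ r ∈ good B P, r ∉ q.asIdeal := by
    by_contra! hcon
    exact hq ((Ideal.span_le.2 hcon) hf1)
  exact quasiFiniteAt_of_good q.asIdeal hr hrq

end Equiv

end K765.QF
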