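import Groth.Agent.GLin.K765.Gens
import Groth.Agent.GLin.K765.QF

/-!
# Embedding a quasi-finite equivariant map in one between integral schemes with normal source

`exists_embedding`: the nontrivial case of the statement: see its docstring.
-/

set_option autoImplicit false
set_option linter.unusedSectionVars false

universe u

open TensorProduct HopfRep GLin

namespace K765.Embed

open Groth.Agent.Books Groth.Agent.Books.ComodBasic Groth.Agent.Books.ComodHom
open K765.Basic K765.SubAlg K765.Build K765.Gens K765.Tr

variable {k : Type u} {A : Type u} [Field k] [IsAlgClosed k] [CommRing A] [HopfAlgebra k A]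
  [Algebra.FiniteType k A] [IsReduced A]
variable {S : Type u} [CommRing S] [Algebra k S] [Comod k A S] [IsCoactAlg k A S]
variable {R : Type u} [CommRing R] [Algebra k R] [Comod k A R] [IsCoactAlg k A R]
variable [Algebra S R] [IsScalarTower k S R]

/-- Step 1: a normal domain `P` of finite type with a stable finitely generated subalgebra `B`, quasi-finite along the
kernel `Q` of `P → R`, with `B → S`. -/
theorem exists_step [Algebra.FiniteType k S] [Algebra.FiniteType k R] [Algebra.QuasiFinite S R]
    (hinj : Function.Injective (algebraMap S R))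
    (he : IsEquiv A (IsScalarTower.toAlgHom k S R)) :
    ∃ (P : Type u) (_ : CommRing P) (_ : IsDomain P) (_ : IsIntegrallyClosed P) (_ : Algebra k P)
      (_ : Comod k A P) (_ : IsCoactAlg k A P)
      (B : Subalgebra k P) (_ : Comod k A B) (_ : IsCoactAlg k A B) (π : P →ₐ[k] R)
      (ψ : B →ₐ[k] S),
      Algebra.FiniteType k P ∧ Algebra.FiniteType k B ∧ IsEquiv A B.val ∧ IsEquiv A π ∧
      IsEquiv A ψ ∧ Function.Surjective π ∧ Function.Surjective ψ ∧
      (IsScalarTower.toAlgHom k S R).comp ψ = π.comp B.val ∧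
      ∀ q : Ideal P, ∀ _ : q.IsPrime, RingHom.ker π ≤ q → Algebra.QuasiFiniteAt B q := by
  classical
  obtain ⟨E, hE, hEfin, hEgen⟩ := exists_generating (k := k) A R
  letI cE : Comod k A E := subComod E hE
  letI cP : Comod k A (SymmetricAlgebra k E) := symComod k A E
  haveI aP : IsCoactAlg k A (SymmetricAlgebra k E) := isCoactAlg_sym k A E
  let P := SymmetricAlgebra k E
  let π : P →ₐ[k] R := SymmetricAlgebra.lift E.subtype
  have hπ : IsEquiv A π := isEquiv_lift (isComodHom_subtype E hE)
  have hπs : Function.Surjective π := lift_subtype_surjective hEgen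
  have hPft : Algebra.FiniteType k P := inferInstance
  haveI : IsNoetherianRing P := Algebra.FiniteType.isNoetherianRing k P
  -- the inverse image of `S`
  let j : S →ₐ[k] R := IsScalarTower.toAlgHom k S R
  have hj : Function.Injective j := hinj
  let C : Subalgebra k P := j.range.comap π
  have hC : IsSubcomod (k := k) (A := A) (Subalgebra.toSubmodule C) :=
    ((isEquiv_iff π).1 hπ).comap (W' := LinearMap.range j.toLinearMap) (isSubcomod_range he)
  -- the generators
  obtain ⟨T₁, hT₁⟩ := Algebra.FiniteType.out (R := k) (A := S)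
  choose lft hlft using fun s : S => hπs (j s)
  obtain ⟨T₂, hT₂⟩ := ((isNoetherianRing_iff_ideal_fg P).1 inferInstance (RingHom.ker π))
  have hT₂C : ∀ t ∈ T₂, t ∈ C := by
    intro t ht
    have h1 : t ∈ RingHom.ker π := by rw [← hT₂]; exact Ideal.subset_span ht
    exact ⟨0, by rw [map_zero]; exact h1.symm⟩
  obtain ⟨W, hWC, hW, hWfin, hTW⟩ := exists_finite_subcomod_le (k := k) (A := A)
    (T₁.image lft ∪ T₂) (Subalgebra.toSubmodule C) hC (by
      intro t ht
      rcases Finset.mem_union.1 ht with ht | ht
      · obtain ⟨s, -, rfl⟩ := Finset.mem_image.1 ht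
        exact ⟨s, (hlft s).symm⟩
      · exact hT₂C t ht)
  let B : Subalgebra k P := Algebra.adjoin k (W : Set P)
  have hBC : B ≤ C := Algebra.adjoin_le hWC
  have hBsub : IsSubcomod (k := k) (A := A) (Subalgebra.toSubmodule B) := isSubcomod_adjoin hW
  have hBr : IsSubcomod (k := k) (A := A) (LinearMap.range B.val.toLinearMap) := by
    have : LinearMap.range B.val.toLinearMap = Subalgebra.toSubmodule B := by
      ext x
      exact ⟨fun ⟨b, hb⟩ => hb ▸ b.2, fun hx => ⟨⟨x, hx⟩, rfl⟩⟩
    rw [this]
    exact hBsub
  have hval : Function.Injective B.val := Subtype.val_injective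
  letI cB : Comod k A B := comodInj B.val hval hBr
  haveI aB : IsCoactAlg k A B := isCoactAlg_inj B.val hval hBr
  have hBval : IsEquiv A B.val := isEquiv_inj B.val hval hBr
  have hBft : Algebra.FiniteType k B := by
    rw [← Subalgebra.fg_iff_finiteType]
    obtain ⟨s, hs⟩ := Module.Finite.iff_fg.mp hWfin
    refine ⟨s, le_antisymm (Algebra.adjoin_mono ?_) (Algebra.adjoin_le ?_)⟩
    · rw [← hs]; exact Submodule.subset_span
    · have : W ≤ Subalgebra.toSubmodule (Algebra.adjoin k (s : Set P)) := by
        rw [← hs, Submodule.span_le]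
        exact Algebra.subset_adjoin
      exact this
  -- the map `B → S`
  let e : S ≃ₐ[k] j.range := AlgEquiv.ofInjective j hj
  let ψ₁ : B →ₐ[k] j.range := (π.comp B.val).codRestrict j.range (fun b => hBC b.2)
  let ψ : B →ₐ[k] S := e.symm.toAlgHom.comp ψ₁
  have hψ : j.comp ψ = π.comp B.val := by
    apply AlgHom.ext
    intro b
    have h1 : (e (e.symm (ψ₁ b)) : R) = ψ₁ b := by rw [AlgEquiv.apply_symm_apply]
    exact h1
  have hψe : IsEquiv A ψ := isEquiv_of_injective_comp he hj (by
    have : (IsScalarTower.toAlgHom k S R).comp ψ = π.comp B.val := hψ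
    rw [this]
    exact hπ.comp hBval)
  have hψs : Function.Surjective ψ := by
    rw [← AlgHom.range_eq_top, eq_top_iff, ← hT₁]
    refine Algebra.adjoin_le fun s hs => ?_
    have h1 : lft s ∈ B := Algebra.subset_adjoin (hTW _ (Finset.mem_union_left _
      (Finset.mem_image_of_mem _ hs)))
    refine ⟨⟨lft s, h1⟩, hj ?_⟩
    have h2 := DFunLike.congr_fun hψ ⟨lft s, h1⟩
    change j (ψ ⟨lft s, h1⟩) = π (lft s) at h2
    change j (ψ ⟨lft s, h1⟩) = j s
    rw [h2, hlft]
  refine ⟨P, inferInstance, isDomain_sym E, isIntegrallyClosed_sym E, inferInstance, cP, aP, B, cB,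
    aB, π, ψ, hPft, hBft, hBval, hπ, hψe, hπs, hψs, hψ, ?_⟩
  -- quasi-finiteness along the kernel
  intro q hq hle
  letI : Algebra B S := ψ.toRingHom.toAlgebra
  letI : Algebra B R := (π.comp B.val).toRingHom.toAlgebra
  haveI : IsScalarTower B S R := IsScalarTower.of_algebraMap_eq fun b =>
    (DFunLike.congr_fun hψ b).symm
  haveI : Module.Finite B S := Module.Finite.of_surjective (Algebra.linearMap B S) hψs
  haveI : Algebra.QuasiFinite B R := Algebra.QuasiFinite.trans B S R
  let π' : P →ₐ[B] R := { π with commutes' := fun b => rfl }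
  haveI : Algebra.QuasiFinite B (P ⧸ RingHom.ker π) :=
    (Algebra.QuasiFinite.iff_of_algEquiv
      (Ideal.quotientKerAlgEquivOfSurjective (f := π') hπs)).2 inferInstance
  haveI : Algebra.FiniteType B P := Algebra.FiniteType.of_restrictScalars_finiteType k B P
  refine K765.QF.quasiFiniteAt_of_ker_le (RingHom.ker π) q ?_
  conv_lhs => rw [← hT₂]
  rw [Ideal.span_le]
  intro t ht
  have h1 : t ∈ B := Algebra.subset_adjoin (hTW _ (Finset.mem_union_right _ ht))
  have h2 : t ∈ RingHom.ker π := by rw [← hT₂]; exact Ideal.subset_span ht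
  exact Ideal.mem_map_of_mem (algebraMap B P) (show (⟨t, h1⟩ : B) ∈ q.under B from hle h2)

end K765.Embed
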