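import Groth.Agent.GLin.K765.Tens
import Mathlib.RingTheory.Kaehler.Basic
import Mathlib.RingTheory.Smooth.Basic
import Mathlib.RingTheory.Smooth.Kaehler
import Mathlib.Algebra.Module.Projective

/-!
# An equivariant splitting of the conormal sequence of a smooth stable subvariety of a representation

`exists_equivariant_derivation`: for a smooth comodule algebra `C` generated by (the image of) a comodule `E`
there is an equivariant derivation `D : C → C ⊗ E` with `m (D c) = d c` in `Ω_C`, `m (c ⊗ e) = c de`.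
-/

set_option autoImplicit false
set_option linter.unusedSectionVars false

universe u v w w' w''

open TensorProduct HopfRep GLin

namespace K765.EqDer

open Groth.Agent.Books Groth.Agent.Books.ComodBasic Groth.Agent.Books.ComodHom
open K765.Basic K765.Tr K765.Haar K765.Tens KaehlerDifferential

section Omega

variable {k : Type u} [CommRing k] {C : Type v} [CommRing C] [Algebra k C]
variable {C' : Type w} [CommRing C'] [Algebra k C']

/-- Functoriality of differentials. -/
lemma exists_omegaMap (f : C →ₐ[k] C') : ∃ θ : Ω[C⁄k] →ₗ[k] Ω[C'⁄k],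
    (∀ (c : C) (ω : Ω[C⁄k]), θ (c • ω) = f c • θ ω) ∧ ∀ x : C, θ (D k C x) = D k C' (f x) := by
  letI : Algebra C C' := f.toRingHom.toAlgebra
  haveI : IsScalarTower k C C' := IsScalarTower.of_algebraMap_eq fun x => (f.commutes x).symm
  refine ⟨(KaehlerDifferential.map k k C C').restrictScalars k, fun c ω => ?_, fun x => ?_⟩
  · change KaehlerDifferential.map k k C C' (c • ω) = _
    rw [map_smul]
    exact algebraMap_smul C' c _ |>.symm
  · exact KaehlerDifferential.map_D k k C C' x

variable {E : Type w} [AddCommGroup E] [Module k E]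

/-- `C ⊗ E → Ω_C`, `c ⊗ e ↦ c d(η e)`. -/
noncomputable def mO (η : E →ₗ[k] C) : C ⊗[k] E →ₗ[C] Ω[C⁄k] :=
  LinearMap.liftBaseChange C ((D k C).toLinearMap ∘ₗ η)

@[simp] lemma mO_tmul (η : E →ₗ[k] C) (c : C) (e : E) :
    mO η (c ⊗ₜ[k] e) = c • D k C (η e) := by
  simp [mO]

lemma mO_surjective (η : E →ₗ[k] C) (hη : Algebra.adjoin k (Set.range η) = ⊤) :
    Function.Surjective (mO η) := by
  rw [← LinearMap.range_eq_top, eq_top_iff, ← KaehlerDifferential.span_range_derivation k C,
    Submodule.span_le]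
  rintro _ ⟨x, rfl⟩
  have hx : x ∈ Algebra.adjoin k (Set.range η) := by rw [hη]; trivial
  induction hx using Algebra.adjoin_induction with
  | mem x hx =>
    obtain ⟨e, rfl⟩ := hx
    exact ⟨1 ⊗ₜ e, by simp⟩
  | algebraMap r => rw [SetLike.mem_coe, Derivation.map_algebraMap]; exact zero_mem _
  | add x y _ _ hx hy => rw [SetLike.mem_coe, map_add]; exact add_mem hx hy
  | mul x y _ _ hx hy =>
    rw [SetLike.mem_coe, Derivation.leibniz]
    exact add_mem (Submodule.smul_mem _ _ hy) (Submodule.smul_mem _ _ hx)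

end Omega

section Main

variable {k : Type u} {A : Type v} [Field k] [IsAlgClosed k] [CommRing A] [HopfAlgebra k A]
  [Algebra.FiniteType k A] [IsReduced A]
variable (hG : IsLinearlyReductive k A)
variable {C : Type w} [CommRing C] [Algebra k C] [Comod k A C] [IsCoactAlg k A C]
variable {E : Type w} [AddCommGroup E] [Module k E] [Comod k A E]

/-- The action of a point on `C ⊗ E`. -/
noncomputable def actT (C : Type w) [CommRing C] [Algebra k C] [Comod k A C] [IsCoactAlg k A C]
    (E : Type w) [AddCommGroup E] [Module k E] [Comod k A E] (g : A →ₐ[k] k) :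
    C ⊗[k] E →ₗ[k] C ⊗[k] E :=
  TensorProduct.map (tr C g).toLinearMap (Comod.act k A E g)

@[simp] lemma actT_tmul (g : A →ₐ[k] k) (c : C) (e : E) :
    actT C E g (c ⊗ₜ[k] e) = tr C g c ⊗ₜ[k] Comod.act k A E g e := by
  simp [actT]

lemma act_tens (g : A →ₐ[k] k) (z : C ⊗[k] E) :
    @Comod.act k A _ _ _ (C ⊗[k] E) _ _ (tens k A C E) g z = actT C E g z := by
  rw [act_tensor, actT]
  congr 2

lemma actT_smul (g : A →ₐ[k] k) (c : C) (z : C ⊗[k] E) :
    actT C E g (c • z) = tr C g c • actT C E g z := by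
  induction z with
  | zero => simp
  | add x y hx hy => simp only [smul_add, map_add, hx, hy]
  | tmul c' e => simp [TensorProduct.smul_tmul']

lemma mO_actT {η : E →ₗ[k] C} (hη : IsComodHom k A η) (g : A →ₐ[k] k)
    {θ : Ω[C⁄k] →ₗ[k] Ω[C⁄k]} (h1 : ∀ (c : C) (ω : Ω[C⁄k]), θ (c • ω) = tr C g c • θ ω)
    (h2 : ∀ x : C, θ (D k C x) = D k C (tr C g x)) (z : C ⊗[k] E) :
    mO η (actT C E g z) = θ (mO η z) := by
  induction z with
  | zero => simp
  | add x y hx hy => simp only [map_add, hx, hy]
  | tmul c e =>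
    rw [actT_tmul, mO_tmul, mO_tmul, h1, h2, IsComodHom.map_act hη, tr_apply, tr_apply]

include hG in
theorem exists_equivariant_derivation [Algebra.FormallySmooth k C] (η : E →ₗ[k] C)
    (hη : IsComodHom k A η) (hgen : Algebra.adjoin k (Set.range η) = ⊤) :
    ∃ δ : Derivation k C (C ⊗[k] E),
      (∀ (g : A →ₐ[k] k) (c : C), δ (tr C g c) = actT C E g (δ c)) ∧
      ∀ c : C, mO η (δ c) = D k C c := by
  letI cT : Comod k A (C ⊗[k] E) := tens k A C E
  -- a splitting
  haveI : Module.Projective C Ω[C⁄k] := inferInstance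
  obtain ⟨σ, hσ⟩ := Module.projective_lifting_property (mO η) LinearMap.id (mO_surjective η hgen)
  let δ₀ : Derivation k C (C ⊗[k] E) := σ.compDer (D k C)
  have hδ₀ : ∀ c, mO η (δ₀ c) = D k C c := fun c => LinearMap.congr_fun hσ (D k C c)
  let ρ : C →ₗ[k] C ⊗[k] E := avg hG δ₀.toLinearMap
  have hact : ∀ (g : A →ₐ[k] k) (z : C ⊗[k] E),
      Comod.act k A (C ⊗[k] E) g z = actT C E g z := fun g z => act_tens g z
  have hactC : ∀ (g : A →ₐ[k] k) (c : C), Comod.act k A C g c = tr C g c := fun g c =>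
    (tr_apply C g c).symm
  have hequiv : ∀ (g : A →ₐ[k] k) (c : C), ρ (tr C g c) = actT C E g (ρ c) := by
    intro g c
    rw [← hact, ← hactC]
    exact (act_avg hG δ₀.toLinearMap g c).symm
  have hleib : ∀ a b : C, ρ (a * b) = a • ρ b + b • ρ a := by
    intro a b
    let z : (C ⊗[k] E) ⊗[k] A := pre δ₀.toLinearMap (a * b) -
      ((LinearMap.lsmul C (C ⊗[k] E) a).restrictScalars k).rTensor A (pre δ₀.toLinearMap b) -
      ((LinearMap.lsmul C (C ⊗[k] E) b).restrictScalars k).rTensor A (pre δ₀.toLinearMap a)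
    have hz : slice (C ⊗[k] E) (haar hG) z = 0 := by
      refine slice_haar_of_forall hG z 0 fun g => ?_
      rw [map_sub, map_sub, slice_rTensor, slice_rTensor, slice_pre, slice_pre, slice_pre, hact,
        hact, hact, hactC, hactC, hactC]
      change actT C E (inv g) (δ₀ (tr C g (a * b))) - a • actT C E (inv g) (δ₀ (tr C g b)) -
        b • actT C E (inv g) (δ₀ (tr C g a)) = 0
      rw [map_mul, Derivation.leibniz, map_add, actT_smul, actT_smul, tr_inv, tr_inv]
      abel
    rw [map_sub, map_sub, slice_rTensor, slice_rTensor, sub_sub, sub_eq_zero] at hz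
    exact hz
  let δ : Derivation k C (C ⊗[k] E) := Derivation.mk' ρ hleib
  refine ⟨δ, hequiv, fun c => ?_⟩
  refine avg_eq_of_forall hG ((mO η).restrictScalars k) δ₀.toLinearMap c _ fun g => ?_
  rw [hact, hactC]
  change mO η (actT C E (inv g) (δ₀ (tr C g c))) = D k C c
  obtain ⟨θ, h1, h2⟩ := exists_omegaMap (tr C (inv g))
  rw [mO_actT hη (inv g) h1 h2, hδ₀, h2, tr_inv]

end Main

end K765.EqDer
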