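import Groth.Agent.GLin.K765.Tr
import Groth.Agent.GLin.K765.Rey

/-!
# The invariant integral of a linearly reductive group and averages of linear maps

* `haar hG : A →ₗ[k] k`, `haar_one`, `haar_act`: the invariant integral;
* `pre ρ v : W ⊗ A`, the function `g ↦ g⁻¹ ρ (g v)` for a linear map `ρ : V → W` of comodules;
* `avg hG ρ : V →ₗ[k] W`, its integral; `act_avg`, `isComodHom_avg`: it is equivariant;
* `slice_haar_of_forall`, `avg_eq_of_forall`: identities for averages are checked pointwise.
-/

set_option autoImplicit false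
set_option linter.unusedSectionVars false

universe u v w w'

open TensorProduct HopfRep GLin

namespace K765.Haar

open Groth.Agent.Books Groth.Agent.Books.ComodBasic Groth.Agent.Books.ComodHom
open Groth.Agent.Books.ComodInv Groth.Agent.Books.ComodPoints
open K701.Orbit K765.Basic K765.Tr K765.Rey WithConv

section Def

variable {k : Type u} {A : Type v} [Field k] [CommRing A] [HopfAlgebra k A]

lemma inv_apply (g : A →ₐ[k] k) (a : A) : inv g a = g (HopfAlgebraStruct.antipode k a) := rfl

lemma act_eq_slice {V : Type w} [AddCommGroup V] [Module k V] [Comod k A V] (g : A →ₐ[k] k)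
    (v : V) : Comod.act k A V g v = slice V g.toLinearMap (Comod.coact (k := k) (A := A) v) := rfl

lemma act_of_mem_fixedPts {V : Type w} [AddCommGroup V] [Module k V] [Comod k A V]
    (g : A →ₐ[k] k) {v : V} (hv : v ∈ fixedPts k A V) : Comod.act k A V g v = v := by
  have hv' : Comod.coact (k := k) (A := A) v = v ⊗ₜ[k] (1 : A) := hv
  rw [act_eq_slice, hv', slice_tmul]
  simp

lemma act_inv_act {V : Type w} [AddCommGroup V] [Module k V] [Comod k A V] (g : A →ₐ[k] k)
    (v : V) : Comod.act k A V (inv g) (Comod.act k A V g v) = v := by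
  have h := LinearMap.congr_fun (act_mul (V := V) (toConv g)⁻¹ (toConv g)) v
  rw [inv_mul_cancel, act_one] at h
  exact h.symm

lemma act_act_inv {V : Type w} [AddCommGroup V] [Module k V] [Comod k A V] (g : A →ₐ[k] k)
    (v : V) : Comod.act k A V g (Comod.act k A V (inv g) v) = v := by
  have h := LinearMap.congr_fun (act_mul (V := V) (toConv g) (toConv g)⁻¹) v
  rw [mul_inv_cancel, act_one] at h
  exact h.symm

lemma IsComodHom.map_act {V : Type w} [AddCommGroup V] [Module k V] [Comod k A V]
    {W : Type w'} [AddCommGroup W] [Module k W] [Comod k A W] {f : V →ₗ[k] W}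
    (hf : IsComodHom k A f) (g : A →ₐ[k] k) (v : V) :
    f (Comod.act k A V g v) = Comod.act k A W g (f v) := hf.map_dact g.toLinearMap v

/-- The product of points, by translations. -/
lemma mul_eq_comp_act (g h : A →ₐ[k] k) (a : A) :
    (toConv g * toConv h).ofConv a = g (Comod.act k A A h a) := by
  have h1 : (toConv g * toConv h).ofConv a =
      Algebra.TensorProduct.lift g h (fun _ _ => .all _ _) (CoalgebraStruct.comul (R := k) a) :=
    AlgHom.convMul_apply (toConv g) (toConv h) a
  rw [h1, act_eq_slice]
  change _ = g (slice A h.toLinearMap (CoalgebraStruct.comul (R := k) a))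
  generalize CoalgebraStruct.comul (R := k) a = z
  induction z with
  | zero => simp
  | add x y hx hy => simp only [map_add, hx, hy]
  | tmul x y => simp [mul_comm]

variable {V : Type w} [AddCommGroup V] [Module k V] [Comod k A V]
variable {W : Type w'} [AddCommGroup W] [Module k W] [Comod k A W]

/-- The function `g ↦ g⁻¹ ρ (g v)`. -/
noncomputable def pre (ρ : V →ₗ[k] W) : V →ₗ[k] W ⊗[k] A :=
  (LinearMap.mul' k A).lTensor W ∘ₗ (TensorProduct.assoc k W A A).toLinearMap ∘ₗ
    ((HopfAlgebraStruct.antipode k).lTensor W ∘ₗ Comod.coact (k := k) (A := A) ∘ₗ ρ).rTensor A ∘ₗ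
      Comod.coact (k := k) (A := A)

lemma slice_pre (g : A →ₐ[k] k) (ρ : V →ₗ[k] W) (v : V) :
    slice W g.toLinearMap (pre (A := A) ρ v) =
      Comod.act k A W (inv g) (ρ (Comod.act k A V g v)) := by
  have key : ∀ z : V ⊗[k] A, slice W g.toLinearMap ((LinearMap.mul' k A).lTensor W
      (TensorProduct.assoc k W A A (((HopfAlgebraStruct.antipode k).lTensor W ∘ₗ
        Comod.coact (k := k) (A := A) ∘ₗ ρ).rTensor A z))) =
      Comod.act k A W (inv g) (ρ (slice V g.toLinearMap z)) := by
    intro z
    induction z with
    | zero => simp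
    | add x y hx hy => simp only [map_add, hx, hy]
    | tmul v a =>
      rw [slice_tmul, map_smul, map_smul, LinearMap.rTensor_tmul, act_eq_slice]
      simp only [LinearMap.comp_apply]
      generalize Comod.coact (k := k) (A := A) (ρ v) = w
      induction w with
      | zero => simp
      | add x y hx hy => simp only [map_add, hx, hy, TensorProduct.add_tmul, smul_add]
      | tmul w b =>
        rw [LinearMap.lTensor_tmul, TensorProduct.assoc_tmul, LinearMap.lTensor_tmul,
          LinearMap.mul'_apply, slice_tmul, slice_tmul]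
        simp only [AlgHom.toLinearMap_apply, map_mul, inv_apply, smul_smul]
        rw [mul_comm]
  exact key _

end Def

section Haar

variable {k : Type u} {A : Type v} [Field k] [CommRing A] [HopfAlgebra k A]
variable (hG : IsLinearlyReductive k A)

/-- The invariant integral. -/
noncomputable def haar : A →ₗ[k] k := CoalgebraStruct.counit (R := k) ∘ₗ rey hG A

lemma haar_one : haar hG 1 = 1 := by
  have h1 : (1 : A) ∈ fixedPts k A A := (invariants k A A).one_mem
  rw [haar, LinearMap.comp_apply, rey_of_mem hG h1]
  exact Bialgebra.counit_one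

lemma haar_act (g : A →ₐ[k] k) (a : A) : haar hG (Comod.act k A A g a) = haar hG a := by
  rw [haar, LinearMap.comp_apply, LinearMap.comp_apply,
    IsComodHom.map_act (isComodHom_rey hG A) g a, act_of_mem_fixedPts g (rey_mem hG a)]

variable {V : Type w} [AddCommGroup V] [Module k V] [Comod k A V]
variable {W : Type w'} [AddCommGroup W] [Module k W] [Comod k A W]

/-- The average of a linear map. -/
noncomputable def avg (ρ : V →ₗ[k] W) : V →ₗ[k] W := slice W (haar hG) ∘ₗ pre ρ

lemma avg_apply (ρ : V →ₗ[k] W) (v : V) : avg hG ρ v = slice W (haar hG) (pre ρ v) := rfl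

lemma slice_lTensor (φ : A →ₗ[k] k) (f : A →ₗ[k] A) (z : W ⊗[k] A) :
    slice W φ (f.lTensor W z) = slice W (φ ∘ₗ f) z := by
  induction z with
  | zero => simp
  | add x y hx hy => simp only [map_add, hx, hy]
  | tmul w a => simp

end Haar

section Points

variable {k : Type u} {A : Type v} [Field k] [IsAlgClosed k] [CommRing A] [HopfAlgebra k A]
  [Algebra.FiniteType k A] [IsReduced A]
variable (hG : IsLinearlyReductive k A)
variable {V : Type w} [AddCommGroup V] [Module k V] [Comod k A V]
variable {W : Type w'} [AddCommGroup W] [Module k W] [Comod k A W]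

lemma ext_points {W : Type w'} [AddCommGroup W] [Module k W] {z z' : W ⊗[k] A}
    (h : ∀ g : A →ₐ[k] k, slice W g.toLinearMap z = slice W g.toLinearMap z') : z = z' :=
  eq_of_forall_point fun g => (TensorProduct.rid k W).injective (h g)

lemma slice_haar_of_forall {W : Type w'} [AddCommGroup W] [Module k W] (z : W ⊗[k] A) (w : W)
    (h : ∀ g : A →ₐ[k] k, slice W g.toLinearMap z = w) : slice W (haar hG) z = w := by
  have h1 : z = w ⊗ₜ[k] 1 := ext_points fun g => by rw [h g, slice_tmul]; simp
  rw [h1, slice_tmul, haar_one, one_smul]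

lemma avg_eq_of_forall {X : Type*} [AddCommGroup X] [Module k X] (L : W →ₗ[k] X)
    (ρ : V →ₗ[k] W) (v : V) (x : X)
    (h : ∀ g : A →ₐ[k] k, L (Comod.act k A W (inv g) (ρ (Comod.act k A V g v))) = x) :
    L (avg hG ρ v) = x := by
  rw [avg_apply, ← slice_rTensor]
  refine slice_haar_of_forall hG _ _ fun g => ?_
  rw [slice_rTensor, slice_pre, h g]

/-- The average commutes with the points. -/
lemma act_avg (ρ : V →ₗ[k] W) (h : A →ₐ[k] k) (v : V) :
    Comod.act k A W h (avg hG ρ v) = avg hG ρ (Comod.act k A V h v) := by
  have key : (Comod.act k A W h).rTensor A (pre ρ v) =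
      (Comod.act k A A (inv h)).lTensor W (pre ρ (Comod.act k A V h v)) := by
    refine ext_points fun g => ?_
    rw [slice_rTensor, slice_pre, slice_lTensor]
    have h1 : g.toLinearMap ∘ₗ Comod.act k A A (inv h) =
        (toConv g * toConv (inv h)).ofConv.toLinearMap := by
      ext a
      exact (mul_eq_comp_act g (inv h) a).symm
    rw [h1, slice_pre]
    have h2 : inv (toConv g * toConv (inv h)).ofConv = (toConv h * toConv (inv g)).ofConv := by
      have h3 : (toConv g * (toConv h)⁻¹)⁻¹ = toConv h * (toConv g)⁻¹ := by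
        rw [mul_inv_rev, inv_inv]
      exact congrArg WithConv.ofConv h3
    rw [h2, act_mul, act_mul, LinearMap.comp_apply, LinearMap.comp_apply]
    change _ = Comod.act k A W h (Comod.act k A W (inv g) (ρ (Comod.act k A V g
      (Comod.act k A V (inv h) (Comod.act k A V h v)))))
    rw [act_inv_act]
  rw [avg_apply, avg_apply, ← slice_rTensor, key, slice_lTensor]
  congr 2
  ext a
  exact haar_act hG (inv h) a

/-- Linear maps commuting with the points are comodule homomorphisms. -/
lemma isComodHom_of_act {f : V →ₗ[k] W}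
    (h : ∀ (g : A →ₐ[k] k) (v : V), f (Comod.act k A V g v) = Comod.act k A W g (f v)) :
    IsComodHom k A f := by
  intro v
  refine ext_points fun g => ?_
  rw [slice_rTensor, ← act_eq_slice, ← act_eq_slice, h]

/-- The average is equivariant. -/
theorem isComodHom_avg (ρ : V →ₗ[k] W) : IsComodHom k A (avg hG ρ) :=
  isComodHom_of_act fun g v => (act_avg hG ρ g v).symm

end Points

end K765.Haar
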