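import Groth.Agent.GLin.K765.EqDer
import Groth.Agent.BBDec.K978.EtaleSection

/-!
# The tubular neighbourhood of a smooth stable subvariety of a representation

`C` is a smooth algebra generated by the image of `η : E → C`, `δ : C → C ⊗ E` a derivation with `m (δ c) = dc`.
`Z := (C ⊗ Sym E) / (δ c)` is the coordinate ring of the normal bundle, embedded in `C × E^∨`.

* `formallySmooth_Z`: `Z` is smooth;
* `theta : Sym E → Z`, `e ↦ η e ⊗ 1 + 1 ⊗ e`;
* `isEtaleAt_theta`: it is étale along the zero section.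
-/

set_option autoImplicit false
set_option linter.unusedSectionVars false

universe u v w w' w''

open TensorProduct HopfRep GLin

namespace K765.Nbd

open Groth.Agent.Books Groth.Agent.Books.ComodBasic Groth.Agent.Books.ComodHom
open K765.Basic K765.Tr K765.Haar K765.Tens K765.EqDer KaehlerDifferential

section Der

variable {k : Type u} [Field k] {C : Type u} [CommRing C] [Algebra k C]
variable {E : Type u} [AddCommGroup E] [Module k E] {η : E →ₗ[k] C}
variable {δ : Derivation k C (C ⊗[k] E)} (hδ : ∀ c, mO η (δ c) = D k C c)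

include hδ in
/-- Any derivation is recovered from its values on `E` through `δ`. -/
lemma liftBaseChange_apply {M : Type*} [AddCommGroup M] [Module C M] [Module k M]
    [IsScalarTower k C M] (d' : Derivation k C M) (c : C) :
    LinearMap.liftBaseChange C (d'.toLinearMap ∘ₗ η) (δ c) = d' c := by
  have h1 : LinearMap.liftBaseChange C (d'.toLinearMap ∘ₗ η) =
      d'.liftKaehlerDifferential ∘ₗ mO η := by
    ext e
    simp
  rw [h1, LinearMap.comp_apply, hδ, Derivation.liftKaehlerDifferential_comp_D]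

/-- `w ↦ Σ cᵢ δ(η eᵢ)`. -/
noncomputable def KK (η : E →ₗ[k] C) (δ : Derivation k C (C ⊗[k] E)) :
    C ⊗[k] E →ₗ[C] C ⊗[k] E :=
  LinearMap.liftBaseChange C (δ.toLinearMap ∘ₗ η)

@[simp] lemma KK_tmul (c : C) (e : E) : KK η δ (c ⊗ₜ[k] e) = c • δ (η e) := by simp [KK]

include hδ in
lemma KK_apply (c : C) : KK η δ (δ c) = δ c := liftBaseChange_apply hδ δ c

include hδ in
/-- The same for derivations over a point. -/
lemma eval_apply (y : C →ₐ[k] k) {M : Type*} [AddCommGroup M] [Module k M] (d' : C →ₗ[k] M)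
    (hd' : ∀ a b, d' (a * b) = y a • d' b + y b • d' a) (c : C) :
    TensorProduct.lift ((LinearMap.lsmul k M ∘ₗ y.toLinearMap).compl₂ (d' ∘ₗ η)) (δ c) = d' c := by
  letI : Module C M := Module.compHom M y.toRingHom
  haveI : IsScalarTower k C M := ⟨fun a c m => by
    change y (a • c) • m = a • (y c • m)
    rw [map_smul, smul_eq_mul, mul_smul]⟩
  let d : Derivation k C M := Derivation.mk' d' hd'
  have h1 := liftBaseChange_apply hδ d c
  have h2 : ∀ z : C ⊗[k] E, TensorProduct.lift ((LinearMap.lsmul k M ∘ₗ y.toLinearMap).compl₂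
      (d' ∘ₗ η)) z = LinearMap.liftBaseChange C (d.toLinearMap ∘ₗ η) z := by
    intro z
    induction z with
    | zero => simp
    | add a b ha hb => simp only [map_add, ha, hb]
    | tmul a e =>
      rw [LinearMap.liftBaseChange_tmul]
      rfl
  rw [h2, h1]
  rfl

end Der

section Z

variable {k : Type u} [Field k] {C : Type u} [CommRing C] [Algebra k C]
variable {E : Type u} [AddCommGroup E] [Module k E]

/-- `C ⊗ E → C ⊗ Sym E`. -/
noncomputable def jE (k : Type u) [Field k] (C : Type u) [CommRing C] [Algebra k C]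
    (E : Type u) [AddCommGroup E] [Module k E] : C ⊗[k] E →ₗ[C] C ⊗[k] SymmetricAlgebra k E :=
  (SymmetricAlgebra.ι k E).baseChange C

@[simp] lemma jE_tmul (c : C) (e : E) : jE k C E (c ⊗ₜ[k] e) = c ⊗ₜ SymmetricAlgebra.ι k E e := by
  simp [jE]

/-- The ideal of the normal bundle. -/
noncomputable def JZ (δ : Derivation k C (C ⊗[k] E)) : Ideal (C ⊗[k] SymmetricAlgebra k E) :=
  Ideal.span (Set.range fun c => jE k C E (δ c))

/-- The coordinate ring of the normal bundle. -/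
def Z (δ : Derivation k C (C ⊗[k] E)) : Type u := (C ⊗[k] SymmetricAlgebra k E) ⧸ JZ δ

noncomputable instance (δ : Derivation k C (C ⊗[k] E)) : CommRing (Z δ) :=
  inferInstanceAs (CommRing ((C ⊗[k] SymmetricAlgebra k E) ⧸ JZ δ))

noncomputable instance (δ : Derivation k C (C ⊗[k] E)) : Algebra k (Z δ) :=
  inferInstanceAs (Algebra k ((C ⊗[k] SymmetricAlgebra k E) ⧸ JZ δ))

variable (η : E →ₗ[k] C) (δ : Derivation k C (C ⊗[k] E))

/-- The quotient map. -/
noncomputable def qZ : C ⊗[k] SymmetricAlgebra k E →ₐ[k] Z δ := Ideal.Quotient.mkₐ k (JZ δ)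

lemma qZ_surjective : Function.Surjective (qZ δ) := Ideal.Quotient.mkₐ_surjective k _

lemma ker_qZ : RingHom.ker (qZ δ) = JZ δ := Ideal.Quotient.mkₐ_ker k _

/-- The projection `Z → Spec C`, on rings. -/
noncomputable def pZ : C →ₐ[k] Z δ := (qZ δ).comp Algebra.TensorProduct.includeLeft

/-- The linear coordinates on `Z`. -/
noncomputable def vZ : E →ₗ[k] Z δ :=
  (qZ δ).toLinearMap ∘ₗ (Algebra.TensorProduct.includeRight :
    SymmetricAlgebra k E →ₐ[k] C ⊗[k] SymmetricAlgebra k E).toLinearMap ∘ₗ SymmetricAlgebra.ι k E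

/-- `(o, v) ↦ o + v`, on rings. -/
noncomputable def theta : SymmetricAlgebra k E →ₐ[k] Z δ :=
  SymmetricAlgebra.lift ((pZ δ).toLinearMap ∘ₗ η + vZ δ)

lemma theta_ι (e : E) : theta η δ (SymmetricAlgebra.ι k E e) = pZ δ (η e) + vZ δ e := by
  rw [theta, SymmetricAlgebra.lift_ι_apply]
  rfl

lemma qZ_tmul_ι (c : C) (e : E) :
    qZ δ (c ⊗ₜ SymmetricAlgebra.ι k E e) = pZ δ c * vZ δ e := by
  have h1 : (c ⊗ₜ[k] SymmetricAlgebra.ι k E e : C ⊗[k] SymmetricAlgebra k E) =
      (c ⊗ₜ 1) * (1 ⊗ₜ SymmetricAlgebra.ι k E e) := by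
    rw [Algebra.TensorProduct.tmul_mul_tmul, one_mul, mul_one]
  rw [h1, map_mul]
  rfl

lemma qZ_jE (w : C ⊗[k] E) : qZ δ (jE k C E w) =
    TensorProduct.lift ((LinearMap.mul k (Z δ) ∘ₗ (pZ δ).toLinearMap).compl₂ (vZ δ)) w := by
  induction w with
  | zero => simp
  | add a b ha hb => simp only [map_add, ha, hb]
  | tmul c e =>
    rw [jE_tmul, TensorProduct.lift.tmul, qZ_tmul_ι]
    rfl

lemma qZ_jE_δ (c : C) : qZ δ (jE k C E (δ c)) = 0 :=
  Ideal.Quotient.eq_zero_iff_mem.2 (Ideal.subset_span ⟨c, rfl⟩)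

/-- The defining relations. -/
lemma lift_δ_eq_zero (c : C) :
    TensorProduct.lift ((LinearMap.mul k (Z δ) ∘ₗ (pZ δ).toLinearMap).compl₂ (vZ δ)) (δ c) = 0 := by
  rw [← qZ_jE, qZ_jE_δ]

variable {δ} in
/-- Algebra maps out of `Z`. -/
lemma algHom_ext_Z {B : Type w} [CommRing B] [Algebra k B] {f g : Z δ →ₐ[k] B}
    (h1 : ∀ c, f (pZ δ c) = g (pZ δ c)) (h2 : ∀ e, f (vZ δ e) = g (vZ δ e)) : f = g := by
  have h : f.comp (qZ δ) = g.comp (qZ δ) := by
    refine Algebra.TensorProduct.ext (AlgHom.ext h1) ?_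
    have h3 : ((f.comp (qZ δ)).comp Algebra.TensorProduct.includeRight :
        SymmetricAlgebra k E →ₐ[k] B) = (g.comp (qZ δ)).comp Algebra.TensorProduct.includeRight :=
      SymmetricAlgebra.algHom_ext (LinearMap.ext h2)
    exact h3
  refine AlgHom.ext fun z => ?_
  obtain ⟨z, rfl⟩ := qZ_surjective δ z
  exact DFunLike.congr_fun h z

/-- The retraction of `C ⊗ Sym E` onto `Z`, on rings. -/
noncomputable def tau : C ⊗[k] SymmetricAlgebra k E →ₐ[k] C ⊗[k] SymmetricAlgebra k E :=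
  Algebra.TensorProduct.lift Algebra.TensorProduct.includeLeft
    (SymmetricAlgebra.lift ((Algebra.TensorProduct.includeRight :
      SymmetricAlgebra k E →ₐ[k] C ⊗[k] SymmetricAlgebra k E).toLinearMap ∘ₗ
      SymmetricAlgebra.ι k E - (jE k C E).restrictScalars k ∘ₗ δ.toLinearMap ∘ₗ η))
    (fun _ _ => .all _ _)

lemma tau_tmul_one (c : C) : tau η δ (c ⊗ₜ 1) = c ⊗ₜ 1 := by
  rw [tau, Algebra.TensorProduct.lift_tmul, map_one, mul_one]
  rfl

lemma tau_one_tmul_ι (e : E) : tau η δ (1 ⊗ₜ SymmetricAlgebra.ι k E e) =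
    1 ⊗ₜ SymmetricAlgebra.ι k E e - jE k C E (δ (η e)) := by
  rw [tau, Algebra.TensorProduct.lift_tmul, map_one, one_mul, SymmetricAlgebra.lift_ι_apply]
  rfl

omit [AddCommGroup E] [Module k E] in
lemma smul_eq_tmul_mul {S : Type u} [CommRing S] [Algebra k S] (c : C) (z : C ⊗[k] S) :
    c • z = (c ⊗ₜ[k] (1 : S)) * z := by
  induction z with
  | zero => simp
  | add a b ha hb => rw [smul_add, mul_add, ha, hb]
  | tmul a b => rw [TensorProduct.smul_tmul', Algebra.TensorProduct.tmul_mul_tmul, one_mul,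
      smul_eq_mul]

lemma tau_jE (w : C ⊗[k] E) : tau η δ (jE k C E w) = jE k C E (w - KK η δ w) := by
  induction w with
  | zero => simp
  | add a b ha hb =>
    rw [map_add, map_add, ha, hb, map_add (KK η δ), ← map_add]
    congr 1
    abel
  | tmul c e =>
    have h1 : (c ⊗ₜ[k] SymmetricAlgebra.ι k E e : C ⊗[k] SymmetricAlgebra k E) =
        (c ⊗ₜ 1) * (1 ⊗ₜ SymmetricAlgebra.ι k E e) := by
      rw [Algebra.TensorProduct.tmul_mul_tmul, one_mul, mul_one]
    rw [jE_tmul, h1, map_mul, tau_tmul_one, tau_one_tmul_ι, KK_tmul, map_sub, jE_tmul, map_smul,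
      mul_sub, Algebra.TensorProduct.tmul_mul_tmul, one_mul, mul_one]
    congr 1
    exact (smul_eq_tmul_mul c _).symm

variable {η δ}

lemma tau_of_mem (hδ : ∀ c, mO η (δ c) = D k C c) : JZ δ ≤ RingHom.ker (tau η δ) := by
  rw [JZ, Ideal.span_le]
  rintro _ ⟨c, rfl⟩
  change tau η δ (jE k C E (δ c)) = 0
  rw [tau_jE, KK_apply hδ, sub_self, map_zero]

/-- The section `Z → C ⊗ Sym E`. -/
noncomputable def sZ (hδ : ∀ c, mO η (δ c) = D k C c) :
    Z δ →ₐ[k] C ⊗[k] SymmetricAlgebra k E :=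
  Ideal.Quotient.liftₐ (JZ δ) (tau η δ) (fun _ ha => tau_of_mem hδ ha)

lemma sZ_qZ (hδ : ∀ c, mO η (δ c) = D k C c) (z : C ⊗[k] SymmetricAlgebra k E) :
    sZ hδ (qZ δ z) = tau η δ z := rfl

lemma qZ_sZ (hδ : ∀ c, mO η (δ c) = D k C c) : (qZ δ).comp (sZ hδ) = AlgHom.id k (Z δ) := by
  refine algHom_ext_Z (fun c => ?_) (fun e => ?_)
  · change qZ δ (tau η δ (c ⊗ₜ 1)) = qZ δ (c ⊗ₜ 1)
    rw [tau_tmul_one]
  · change qZ δ (tau η δ (1 ⊗ₜ SymmetricAlgebra.ι k E e)) =
      qZ δ (1 ⊗ₜ SymmetricAlgebra.ι k E e)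
    rw [tau_one_tmul_ι, map_sub, qZ_jE_δ, sub_zero]

/-- `Sym E` is formally smooth. -/
lemma formallySmooth_sym (k : Type u) [Field k] (E : Type u) [AddCommGroup E] [Module k E]
    [Module.Finite k E] : Algebra.FormallySmooth k (SymmetricAlgebra k E) :=
  Algebra.FormallySmooth.of_equiv
    (SymmetricAlgebra.equivMvPolynomial (Module.finBasis k E)).symm

theorem formallySmooth_Z [Module.Finite k E] [Algebra.FormallySmooth k C]
    (hδ : ∀ c, mO η (δ c) = D k C c) : Algebra.FormallySmooth k (Z δ) := by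
  haveI := formallySmooth_sym k E
  haveI : Algebra.FormallySmooth C (C ⊗[k] SymmetricAlgebra k E) := inferInstance
  haveI : Algebra.FormallySmooth k (C ⊗[k] SymmetricAlgebra k E) :=
    Algebra.FormallySmooth.comp k C _
  refine Algebra.FormallySmooth.of_split (qZ δ) ((Ideal.Quotient.mkₐ k _).comp (sZ hδ)) ?_
  rw [← qZ_sZ hδ]
  rfl

end Z

end K765.Nbd
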