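import Groth.Agent.GLin.K765.Haar
import Groth.Agent.GLin.K765.Gens
import Groth.Prelude.Def_ComodTens

/-!
# Tensor products of comodules and comodule algebras

* `act_tensor`: the action of a point on a tensor product;
* `isCoactAlg_tensor`, `isEquiv_includeLeft`, `isEquiv_includeRight`, `isEquiv_tensorLift`: tensor products of comodule
  algebras.
-/

set_option autoImplicit false
set_option linter.unusedSectionVars false

universe u v w w' w''

open TensorProduct HopfRep GLin

namespace K765.Tens

open Groth.Agent.Books Groth.Agent.Books.ComodBasic Groth.Agent.Books.ComodHom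
open K765.Basic K765.Tr K765.Haar

section Lin

variable {k : Type u} {A : Type v} [Field k] [CommRing A] [HopfAlgebra k A]
variable {V : Type w} [AddCommGroup V] [Module k V] [Comod k A V]
variable {W : Type w'} [AddCommGroup W] [Module k W] [Comod k A W]

variable (k A V W) in
/-- The tensor product comodule. -/
@[reducible] noncomputable def tens : Comod k A (V ⊗[k] W) :=
  ComodTens.Comod.tensor (inferInstance : Comod k A V) (inferInstance : Comod k A W)

lemma act_tensor (g : A →ₐ[k] k) (z : V ⊗[k] W) :
    @Comod.act k A _ _ _ (V ⊗[k] W) _ _ (tens k A V W) g z =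
      TensorProduct.map (Comod.act k A V g) (Comod.act k A W g) z := by
  letI := tens k A V W
  induction z with
  | zero => simp
  | add x y hx hy => simp only [map_add, hx, hy]
  | tmul v w =>
    rw [TensorProduct.map_tmul, act_eq_slice, act_eq_slice, act_eq_slice]
    have h1 : Comod.coact (k := k) (A := A) (v ⊗ₜ[k] w) =
        TensorProduct.map LinearMap.id (LinearMap.mul' k A)
        (AlgebraTensorModule.tensorTensorTensorComm k k k k V A W A
          (Comod.coact (k := k) (A := A) v ⊗ₜ[k] Comod.coact (k := k) (A := A) w)) := rfl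
    rw [h1]
    generalize Comod.coact (k := k) (A := A) v = z
    generalize Comod.coact (k := k) (A := A) w = z'
    induction z with
    | zero => simp
    | add x y hx hy => simp only [map_add, hx, hy, TensorProduct.add_tmul]
    | tmul v a =>
      induction z' with
      | zero => simp
      | add x y hx hy => simp only [map_add, hx, hy, TensorProduct.tmul_add]
      | tmul w b =>
        simp [TensorProduct.smul_tmul', TensorProduct.tmul_smul, smul_smul, mul_comm]

end Lin

section Alg

variable {k : Type u} {A : Type v} [Field k] [CommRing A] [HopfAlgebra k A]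
variable {C : Type w} [CommRing C] [Algebra k C] [Comod k A C] [IsCoactAlg k A C]
variable {S : Type w'} [CommRing S] [Algebra k S] [Comod k A S] [IsCoactAlg k A S]

/-- `(C ⊗ A) ⊗ (S ⊗ A) → (C ⊗ S) ⊗ A` as an algebra map. -/
noncomputable def tmap (k : Type u) (A : Type v) [Field k] [CommRing A] [HopfAlgebra k A]
    (C : Type w) [CommRing C] [Algebra k C] (S : Type w') [CommRing S] [Algebra k S] :
    (C ⊗[k] A) ⊗[k] (S ⊗[k] A) →ₐ[k] (C ⊗[k] S) ⊗[k] A :=
  (Algebra.TensorProduct.map (AlgHom.id k (C ⊗[k] S)) (Algebra.TensorProduct.lmul' k)).comp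
    (Algebra.TensorProduct.tensorTensorTensorComm k k k k C A S A).toAlgHom

lemma coact_tmul (c : C) (s : S) :
    @Comod.coact k A _ _ _ _ (C ⊗[k] S) _ _ (tens k A C S) (c ⊗ₜ[k] s) =
      tmap k A C S (Comod.coact (k := k) (A := A) c ⊗ₜ[k] Comod.coact (k := k) (A := A) s) := by
  have h1 : @Comod.coact k A _ _ _ _ (C ⊗[k] S) _ _ (tens k A C S) (c ⊗ₜ[k] s) =
        TensorProduct.map LinearMap.id (LinearMap.mul' k A)
        (AlgebraTensorModule.tensorTensorTensorComm k k k k C A S A
          (Comod.coact (k := k) (A := A) c ⊗ₜ[k] Comod.coact (k := k) (A := A) s)) := rfl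
  rw [h1]
  generalize Comod.coact (k := k) (A := A) c = z
  generalize Comod.coact (k := k) (A := A) s = z'
  induction z with
  | zero => simp
  | add x y hx hy => simp only [map_add, hx, hy, TensorProduct.add_tmul]
  | tmul v a =>
    induction z' with
    | zero => simp
    | add x y hx hy => simp only [map_add, hx, hy, TensorProduct.tmul_add]
    | tmul w b => simp [tmap]

variable (k A C S) in
lemma isCoactAlg_tensor : letI := tens k A C S; IsCoactAlg k A (C ⊗[k] S) := by
  letI := tens k A C S
  refine ⟨?_, fun f g => ?_⟩
  · rw [Algebra.TensorProduct.one_def]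
    change @Comod.coact k A _ _ _ _ (C ⊗[k] S) _ _ (tens k A C S) _ = _
    rw [coact_tmul, IsCoactAlg.coact_one, IsCoactAlg.coact_one, ← Algebra.TensorProduct.one_def,
      map_one]
  · induction f with
    | zero => simp
    | add x y hx hy => simp only [map_add, hx, hy, add_mul]
    | tmul c s =>
      induction g with
      | zero => simp
      | add x y hx hy => simp only [map_add, hx, hy, mul_add]
      | tmul c' s' =>
        change @Comod.coact k A _ _ _ _ (C ⊗[k] S) _ _ (tens k A C S) _ =
          @Comod.coact k A _ _ _ _ (C ⊗[k] S) _ _ (tens k A C S) _ *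
          @Comod.coact k A _ _ _ _ (C ⊗[k] S) _ _ (tens k A C S) _
        rw [Algebra.TensorProduct.tmul_mul_tmul, coact_tmul, coact_tmul, coact_tmul, ← map_mul,
          Algebra.TensorProduct.tmul_mul_tmul, IsCoactAlg.coact_mul, IsCoactAlg.coact_mul]

lemma isEquiv_includeLeft : letI := tens k A C S;
    IsEquiv A (Algebra.TensorProduct.includeLeft : C →ₐ[k] C ⊗[k] S) := by
  intro c
  change @Comod.coact k A _ _ _ _ (C ⊗[k] S) _ _ (tens k A C S) (c ⊗ₜ[k] (1 : S)) = _
  rw [coact_tmul, IsCoactAlg.coact_one]
  generalize Comod.coact (k := k) (A := A) c = z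
  induction z with
  | zero => simp
  | add x y hx hy => simp only [map_add, hx, hy, TensorProduct.add_tmul]
  | tmul v a =>
    simp [tmap, Algebra.TensorProduct.one_def]

lemma isEquiv_includeRight : letI := tens k A C S;
    IsEquiv A (Algebra.TensorProduct.includeRight : S →ₐ[k] C ⊗[k] S) := by
  intro s
  change @Comod.coact k A _ _ _ _ (C ⊗[k] S) _ _ (tens k A C S) ((1 : C) ⊗ₜ[k] s) = _
  rw [coact_tmul, IsCoactAlg.coact_one]
  generalize Comod.coact (k := k) (A := A) s = z
  induction z with
  | zero => simp
  | add x y hx hy => simp only [map_add, hx, hy, TensorProduct.tmul_add]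
  | tmul v a =>
    simp [tmap, Algebra.TensorProduct.one_def]

end Alg

end K765.Tens
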