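import Groth.Agent.GLin.K765.NbdEt
import Groth.Agent.GLin.K765.Tens
import Groth.Agent.GLin.K765.Gens

/-!
# The tubular neighbourhood: equivariance

The comodule algebra structure on `Z δ` for an equivariant `δ`, the maps `theta`, `pZ`, the zero section.
-/

set_option autoImplicit false
set_option linter.unusedSectionVars false

universe u v w w' w''

open TensorProduct HopfRep GLin

namespace K765.NbdEq

open Groth.Agent.Books Groth.Agent.Books.ComodBasic Groth.Agent.Books.ComodHom
open K765.Basic K765.Tr K765.Haar K765.Tens K765.EqDer K765.Nbd K765.NbdEt K765.Build K765.SubAlg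
open K765.Gens KaehlerDifferential

section TensEquiv

variable {k : Type u} {A : Type v} [Field k] [CommRing A] [HopfAlgebra k A]
variable {C : Type w} [CommRing C] [Algebra k C] [Comod k A C] [IsCoactAlg k A C]
variable {S : Type w'} [CommRing S] [Algebra k S] [Comod k A S] [IsCoactAlg k A S]
variable {R : Type w''} [CommRing R] [Algebra k R] [Comod k A R] [IsCoactAlg k A R]

/-- Equivariance of an algebra map out of a tensor product. -/
lemma isEquiv_of_tensor (f : C ⊗[k] S →ₐ[k] R)
    (h1 : IsEquiv A (f.comp Algebra.TensorProduct.includeLeft))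
    (h2 : IsEquiv A (f.comp (Algebra.TensorProduct.includeRight : S →ₐ[k] C ⊗[k] S))) :
    letI := tens k A C S
    IsEquiv A f := by
  letI := tens k A C S
  haveI := isCoactAlg_tensor k A C S
  have e1 : IsEquiv A (Algebra.TensorProduct.includeLeft : C →ₐ[k] C ⊗[k] S) :=
    isEquiv_includeLeft
  have e2 : IsEquiv A (Algebra.TensorProduct.includeRight : S →ₐ[k] C ⊗[k] S) :=
    isEquiv_includeRight
  have key : (coactAlgHom k A R).comp f =
      (Algebra.TensorProduct.map f (AlgHom.id k A)).comp (coactAlgHom k A (C ⊗[k] S)) := by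
    refine Algebra.TensorProduct.ext ?_ ?_
    · refine AlgHom.ext fun c => ?_
      have h3 := h1 c
      rw [map_comp_apply, ← e1] at h3
      exact h3
    · refine AlgHom.ext fun s => ?_
      have h3 := h2 s
      rw [map_comp_apply, ← e2] at h3
      exact h3
  exact fun s => DFunLike.congr_fun key s

end TensEquiv

section Main

variable {k : Type u} {A : Type u} [Field k] [IsAlgClosed k] [CommRing A] [HopfAlgebra k A]
  [Algebra.FiniteType k A] [IsReduced A]
variable {C : Type u} [CommRing C] [Algebra k C] [Comod k A C] [IsCoactAlg k A C]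
variable {E : Type u} [AddCommGroup E] [Module k E] [Comod k A E]
variable {η : E →ₗ[k] C} {δ : Derivation k C (C ⊗[k] E)}

lemma act_sym_ι (g : A →ₐ[k] k) (e : E) :
    letI := symComod k A E
    Comod.act k A (SymmetricAlgebra k E) g (SymmetricAlgebra.ι k E e) =
      SymmetricAlgebra.ι k E (Comod.act k A E g e) := by
  letI := symComod k A E
  exact (IsComodHom.map_act (isComodHom_ι E) g e).symm

variable (k A C E) in
/-- The comodule structure of `C ⊗ Sym E`. -/
@[reducible] noncomputable def cQ : Comod k A (C ⊗[k] SymmetricAlgebra k E) :=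
  letI := symComod k A E
  tens k A C (SymmetricAlgebra k E)

variable (k A C E) in
lemma aQ : letI := cQ k A C E; IsCoactAlg k A (C ⊗[k] SymmetricAlgebra k E) := by
  letI := symComod k A E
  haveI := isCoactAlg_sym k A E
  exact isCoactAlg_tensor k A C (SymmetricAlgebra k E)

lemma act_jE (g : A →ₐ[k] k) (w : C ⊗[k] E) :
    letI := cQ k A C E
    Comod.act k A (C ⊗[k] SymmetricAlgebra k E) g (jE k C E w) = jE k C E (actT C E g w) := by
  letI cS := symComod k A E
  letI := cQ k A C E
  have h : ∀ z : C ⊗[k] SymmetricAlgebra k E,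
      Comod.act k A (C ⊗[k] SymmetricAlgebra k E) g z =
      TensorProduct.map (Comod.act k A C g) (Comod.act k A (SymmetricAlgebra k E) g) z :=
    fun z => act_tensor g z
  rw [h]
  induction w with
  | zero => simp
  | add a b ha hb => simp only [map_add, ha, hb]
  | tmul c e =>
    rw [jE_tmul, TensorProduct.map_tmul, actT_tmul, jE_tmul, tr_apply]
    congr 1
    exact act_sym_ι g e

lemma isSubcomod_JZ (heq : ∀ (g : A →ₐ[k] k) (c : C), δ (tr C g c) = actT C E g (δ c)) :
    letI := cQ k A C E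
    IsSubcomod (k := k) (A := A) ((JZ δ).restrictScalars k) := by
  letI := cQ k A C E
  haveI := aQ k A C E
  refine isSubcomod_ideal_of_tr _ fun g f hf => ?_
  have : JZ δ ≤ (JZ δ).comap (tr (C ⊗[k] SymmetricAlgebra k E) g) := by
    conv_lhs => rw [JZ]
    rw [Ideal.span_le]
    rintro _ ⟨c, rfl⟩
    change tr (C ⊗[k] SymmetricAlgebra k E) g (jE k C E (δ c)) ∈ JZ δ
    rw [tr_apply]
    have h1 := act_jE g (δ c)
    change Comod.act k A (C ⊗[k] SymmetricAlgebra k E) g (jE k C E (δ c)) ∈ JZ δ
    rw [h1, ← heq]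
    exact Ideal.subset_span ⟨tr C g c, rfl⟩
  exact this hf

lemma isSubcomod_ker_qZ (heq : ∀ (g : A →ₐ[k] k) (c : C), δ (tr C g c) = actT C E g (δ c)) :
    letI := cQ k A C E
    IsSubcomod (k := k) (A := A) ((RingHom.ker (qZ δ)).restrictScalars k) := by
  letI := cQ k A C E
  rw [ker_qZ]
  exact isSubcomod_JZ heq

/-- The comodule structure on the normal bundle. -/
@[reducible] noncomputable def cZ
    (heq : ∀ (g : A →ₐ[k] k) (c : C), δ (tr C g c) = actT C E g (δ c)) : Comod k A (Z δ) :=
  letI := cQ k A C E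
  haveI := aQ k A C E
  comodSurj (qZ δ) (qZ_surjective δ) (isSubcomod_ker_qZ heq)

lemma aZ (heq : ∀ (g : A →ₐ[k] k) (c : C), δ (tr C g c) = actT C E g (δ c)) :
    letI := cZ heq
    IsCoactAlg k A (Z δ) := by
  letI := cQ k A C E
  haveI := aQ k A C E
  exact isCoactAlg_surj (qZ δ) (qZ_surjective δ) (isSubcomod_ker_qZ heq)

lemma isEquiv_qZ (heq : ∀ (g : A →ₐ[k] k) (c : C), δ (tr C g c) = actT C E g (δ c)) :
    letI := cQ k A C E
    letI := cZ heq
    IsEquiv A (qZ δ) := by
  letI := cQ k A C E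
  haveI := aQ k A C E
  exact isEquiv_surj (qZ δ) (qZ_surjective δ) (isSubcomod_ker_qZ heq)

lemma isEquiv_pZ (heq : ∀ (g : A →ₐ[k] k) (c : C), δ (tr C g c) = actT C E g (δ c)) :
    letI := cZ heq
    IsEquiv A (pZ δ) := by
  letI cS := symComod k A E
  haveI := isCoactAlg_sym k A E
  letI cQ' := cQ k A C E
  haveI := aQ k A C E
  letI cZ' := cZ heq
  have h1 : IsEquiv A (Algebra.TensorProduct.includeLeft :
      C →ₐ[k] C ⊗[k] SymmetricAlgebra k E) := isEquiv_includeLeft
  have h2 : IsEquiv A (qZ δ) := isEquiv_qZ heq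
  exact h2.comp h1

lemma isComodHom_vZ (heq : ∀ (g : A →ₐ[k] k) (c : C), δ (tr C g c) = actT C E g (δ c)) :
    letI := cZ heq
    IsComodHom k A (vZ δ) := by
  letI cS := symComod k A E
  haveI := isCoactAlg_sym k A E
  letI cQ' := cQ k A C E
  haveI := aQ k A C E
  letI cZ' := cZ heq
  have h1 : IsEquiv A (Algebra.TensorProduct.includeRight :
      SymmetricAlgebra k E →ₐ[k] C ⊗[k] SymmetricAlgebra k E) := isEquiv_includeRight
  have h2 : IsEquiv A (qZ δ) := isEquiv_qZ heq
  exact (((isEquiv_iff _).1 h2).comp (((isEquiv_iff _).1 h1).comp (isComodHom_ι E)))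

lemma isEquiv_theta (heq : ∀ (g : A →ₐ[k] k) (c : C), δ (tr C g c) = actT C E g (δ c))
    (hη : IsComodHom k A η) :
    letI := cZ heq
    letI := symComod k A E
    IsEquiv A (theta η δ) := by
  letI cS := symComod k A E
  haveI := isCoactAlg_sym k A E
  letI cZ' := cZ heq
  haveI := aZ heq
  have h1 : IsComodHom k A ((pZ δ).toLinearMap ∘ₗ η + vZ δ) :=
    (((isEquiv_iff _).1 (isEquiv_pZ heq)).comp hη).add (isComodHom_vZ heq)
  exact isEquiv_lift h1

variable (δ) in
/-- The zero section, on rings. -/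
noncomputable def zeroSec : Z δ →ₐ[k] C :=
  Ideal.Quotient.liftₐ (JZ δ) (Algebra.TensorProduct.lift (AlgHom.id k C)
    (SymmetricAlgebra.lift (0 : E →ₗ[k] C)) (fun _ _ => .all _ _)) (by
    have : JZ δ ≤ RingHom.ker (Algebra.TensorProduct.lift (AlgHom.id k C)
        (SymmetricAlgebra.lift (0 : E →ₗ[k] C)) (fun _ _ => .all _ _)) := by
      rw [JZ, Ideal.span_le]
      rintro _ ⟨c, rfl⟩
      change Algebra.TensorProduct.lift (AlgHom.id k C) (SymmetricAlgebra.lift (0 : E →ₗ[k] C))
        (fun _ _ => .all _ _) (jE k C E (δ c)) = 0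
      generalize δ c = w
      induction w with
      | zero => simp
      | add a b ha hb => rw [map_add, map_add, ha, hb, add_zero]
      | tmul c e => simp
    exact fun a ha => this ha)

lemma zeroSec_pZ (c : C) : zeroSec δ (pZ δ c) = c := by
  change Algebra.TensorProduct.lift (AlgHom.id k C) (SymmetricAlgebra.lift (0 : E →ₗ[k] C))
        (fun _ _ => .all _ _) (c ⊗ₜ 1) = _
  simp

lemma zeroSec_vZ (e : E) : zeroSec δ (vZ δ e) = 0 := by
  change Algebra.TensorProduct.lift (AlgHom.id k C) (SymmetricAlgebra.lift (0 : E →ₗ[k] C))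
        (fun _ _ => .all _ _) (1 ⊗ₜ SymmetricAlgebra.ι k E e) = _
  simp

lemma zeroPt_eq (y : C →ₐ[k] k) : zeroPt δ y = y.comp (zeroSec δ) := by
  refine algHom_ext_Z (fun c => ?_) (fun e => ?_)
  · rw [zeroPt_pZ, AlgHom.comp_apply, zeroSec_pZ]
  · rw [zeroPt_vZ, AlgHom.comp_apply, zeroSec_vZ, map_zero]

lemma isEquiv_zeroSec (heq : ∀ (g : A →ₐ[k] k) (c : C), δ (tr C g c) = actT C E g (δ c)) :
    letI := cZ heq
    IsEquiv A (zeroSec δ) := by
  letI cS := symComod k A E
  haveI := isCoactAlg_sym k A E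
  letI cQ' := cQ k A C E
  haveI := aQ k A C E
  letI cZ' := cZ heq
  haveI := aZ heq
  have h2 : IsEquiv A (qZ δ) := isEquiv_qZ heq
  refine isEquiv_of_surjective_comp h2 (qZ_surjective δ) ?_
  refine isEquiv_of_tensor _ ?_ ?_
  · have : ((zeroSec δ).comp (qZ δ)).comp Algebra.TensorProduct.includeLeft = AlgHom.id k C :=
      AlgHom.ext fun c => zeroSec_pZ (δ := δ) c
    rw [this]
    exact isEquiv_id
  · have : ((zeroSec δ).comp (qZ δ)).comp (Algebra.TensorProduct.includeRight :
        SymmetricAlgebra k E →ₐ[k] C ⊗[k] SymmetricAlgebra k E) =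
        SymmetricAlgebra.lift (0 : E →ₗ[k] C) := by
      refine SymmetricAlgebra.algHom_ext (LinearMap.ext fun e => ?_)
      rw [SymmetricAlgebra.lift_comp_ι]
      exact zeroSec_vZ (δ := δ) e
    rw [this]
    exact isEquiv_lift isComodHom_zero

end Main

end K765.NbdEq
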