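import Groth.Agent.GLin.K765.Nbd
import Mathlib.Algebra.TrivSqZeroExt.Basic

/-!
# The tubular neighbourhood is étale along the zero section

`isEtaleAt_theta`.
-/

set_option autoImplicit false
set_option linter.unusedSectionVars false

universe u v w w' w''

open TensorProduct HopfRep GLin

namespace K765.NbdEt

open K765.Basic K765.EqDer K765.Nbd KaehlerDifferential

section Sqz

variable {k : Type u} [Field k] {R : Type v} [CommRing R] [Algebra k R]
variable {M : Type w} [AddCommGroup M] [Module k M]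

/-- The right action. -/
@[reducible] def opMod (k : Type u) [Field k] (M : Type w) [AddCommGroup M] [Module k M] :
    Module kᵐᵒᵖ M := Module.compHom M ((RingHom.id k).fromOpposite mul_comm)

attribute [local instance] opMod

instance instCentral : IsCentralScalar k M := ⟨fun _ _ => rfl⟩

attribute [-instance] instCentral
attribute [local instance] instCentral

/-- The algebra map given by a point and a derivation over the point. -/
noncomputable def mkSq (x : R →ₐ[k] k) (d : R →ₗ[k] M)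
    (hd : ∀ a b, d (a * b) = x a • d b + x b • d a) : R →ₐ[k] TrivSqZeroExt k M :=
  AlgHom.ofLinearMap
    ((TrivSqZeroExt.inlAlgHom k k M).toLinearMap ∘ₗ x.toLinearMap +
      (TrivSqZeroExt.inrHom k M).restrictScalars k ∘ₗ d)
    (by
      have h1 : d 1 = 0 := by
        have := hd 1 1
        rw [mul_one, map_one x, one_smul] at this
        exact left_eq_add.1 this
      ext
      · simp
      · simp [h1])
    (fun a b => by
      ext
      · simp
      · simp [hd])

lemma fst_mkSq (x : R →ₐ[k] k) (d : R →ₗ[k] M)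
    (hd : ∀ a b, d (a * b) = x a • d b + x b • d a) (r : R) : (mkSq x d hd r).fst = x r := by
  simp [mkSq]

lemma snd_mkSq (x : R →ₐ[k] k) (d : R →ₗ[k] M)
    (hd : ∀ a b, d (a * b) = x a • d b + x b • d a) (r : R) : (mkSq x d hd r).snd = d r := by
  simp [mkSq]

lemma mul_eq_zero_of_fst {a b : TrivSqZeroExt k M} (ha : a.fst = 0) (hb : b.fst = 0) :
    a * b = 0 := by
  ext
  · simp [ha]
  · simp [ha, hb]

/-- Algebra maps to a square-zero extension kill the square of the kernel of the point. -/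
lemma map_eq_zero_of_mem_sq (x : R →ₐ[k] k) (t : R →ₐ[k] TrivSqZeroExt k M)
    (hx : ∀ r, (t r).fst = x r) {r : R} (hr : r ∈ RingHom.ker x ^ 2) : t r = 0 := by
  rw [pow_two] at hr
  induction hr using Submodule.mul_induction_on' with
  | mem_mul_mem a ha b hb =>
    rw [map_mul]
    exact mul_eq_zero_of_fst (by rw [hx]; exact ha) (by rw [hx]; exact hb)
  | add a _ b _ ha hb => rw [map_add, ha, hb, add_zero]

end Sqz

section Main

variable {k : Type u} [Field k] {C : Type u} [CommRing C] [Algebra k C]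
variable {E : Type u} [AddCommGroup E] [Module k E] {η : E →ₗ[k] C}
variable {δ : Derivation k C (C ⊗[k] E)}

variable (δ) in
/-- The point of the zero section over the point `y`. -/
noncomputable def zeroPt (y : C →ₐ[k] k) : Z δ →ₐ[k] k :=
  Ideal.Quotient.liftₐ (JZ δ) (Algebra.TensorProduct.lift y
    (SymmetricAlgebra.lift (0 : E →ₗ[k] k)) (fun _ _ => .all _ _)) (by
    have : JZ δ ≤ RingHom.ker (Algebra.TensorProduct.lift y
        (SymmetricAlgebra.lift (0 : E →ₗ[k] k)) (fun _ _ => .all _ _)) := by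
      rw [JZ, Ideal.span_le]
      rintro _ ⟨c, rfl⟩
      change Algebra.TensorProduct.lift y (SymmetricAlgebra.lift (0 : E →ₗ[k] k))
        (fun _ _ => .all _ _) (jE k C E (δ c)) = 0
      generalize δ c = w
      induction w with
      | zero => simp
      | add a b ha hb => rw [map_add, map_add, ha, hb, add_zero]
      | tmul c e => simp
    exact fun a ha => this ha)

lemma zeroPt_pZ (y : C →ₐ[k] k) (c : C) : zeroPt δ y (pZ δ c) = y c := by
  change Algebra.TensorProduct.lift y (SymmetricAlgebra.lift (0 : E →ₗ[k] k))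
        (fun _ _ => .all _ _) (c ⊗ₜ 1) = _
  simp

lemma zeroPt_vZ (y : C →ₐ[k] k) (e : E) : zeroPt δ y (vZ δ e) = 0 := by
  change Algebra.TensorProduct.lift y (SymmetricAlgebra.lift (0 : E →ₗ[k] k))
        (fun _ _ => .all _ _) (1 ⊗ₜ SymmetricAlgebra.ι k E e) = _
  simp

lemma zeroPt_theta (y : C →ₐ[k] k) (e : E) :
    zeroPt δ y (theta η δ (SymmetricAlgebra.ι k E e)) = y (η e) := by
  rw [theta_ι, map_add, zeroPt_pZ, zeroPt_vZ, add_zero]

/-- Evaluation of `C ⊗ E` at a point. -/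
noncomputable def evE (y : C →ₐ[k] k) : C ⊗[k] E →ₗ[k] E :=
  TensorProduct.lift (LinearMap.lsmul k E ∘ₗ y.toLinearMap)

@[simp] lemma evE_tmul (y : C →ₐ[k] k) (c : C) (e : E) : evE y (c ⊗ₜ[k] e) = y c • e := by
  simp [evE]

lemma evE_smul (y : C →ₐ[k] k) (c : C) (w : C ⊗[k] E) : evE y (c • w) = y c • evE y w := by
  induction w with
  | zero => simp
  | add a b ha hb => simp only [smul_add, map_add, ha, hb]
  | tmul a e => simp [TensorProduct.smul_tmul', mul_smul]

/-! ### Surjectivity on cotangent spaces -/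

lemma ker_le (hδ : ∀ c, mO η (δ c) = D k C c) (y : C →ₐ[k] k) :
    RingHom.ker (zeroPt δ y) ≤ RingHom.ker (zeroPt δ y) ^ 2 ⊔
      (RingHom.ker ((zeroPt δ y).comp (theta η δ))).map (theta η δ) := by
  set z₀ := zeroPt δ y with hz₀
  set I : Ideal (Z δ) := RingHom.ker z₀ ^ 2 ⊔ (RingHom.ker (z₀.comp (theta η δ))).map (theta η δ)
    with hI
  let r : Z δ →ₐ[k] Z δ ⧸ I := Ideal.Quotient.mkₐ k I
  have hr0 : ∀ a b : Z δ, z₀ a = 0 → z₀ b = 0 → r a * r b = 0 := by
    intro a b ha hb
    rw [← map_mul]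
    refine Ideal.Quotient.eq_zero_iff_mem.2 (Ideal.mem_sup_left ?_)
    rw [pow_two]
    exact Ideal.mul_mem_mul ha hb
  let d' : C →ₗ[k] Z δ ⧸ I := (r.comp (pZ δ)).toLinearMap -
    ((Algebra.ofId k (Z δ ⧸ I)).comp y).toLinearMap
  have hd'r : ∀ c, d' c = r (pZ δ c - algebraMap k _ (y c)) := by
    intro c
    rw [map_sub, AlgHom.commutes]
    rfl
  have hz0 : ∀ c, z₀ (pZ δ c - algebraMap k _ (y c)) = 0 := by
    intro c
    rw [map_sub, AlgHom.commutes, hz₀, zeroPt_pZ]
    simp
  have hd'0 : ∀ a b, d' a * d' b = 0 := by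
    intro a b
    rw [hd'r, hd'r]
    exact hr0 _ _ (hz0 a) (hz0 b)
  have hd' : ∀ a b, d' (a * b) = y a • d' b + y b • d' a := by
    intro a b
    have h1 := hd'0 a b
    have h2 : ∀ c, r (pZ δ c) = d' c + algebraMap k _ (y c) := by
      intro c
      rw [hd'r, map_sub, AlgHom.commutes, sub_add_cancel]
    have h3 : d' (a * b) = r (pZ δ a) * r (pZ δ b) - algebraMap k _ (y a * y b) := by
      rw [← map_mul, ← map_mul, ← map_mul]
      rfl
    rw [h3, h2, h2, Algebra.smul_def, Algebra.smul_def, map_mul]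
    linear_combination h1
  -- the values on the linear coordinates
  have hv : ∀ e, r (vZ δ e) = - d' (η e) := by
    intro e
    have h1 : r (theta η δ (SymmetricAlgebra.ι k E e - algebraMap k _ (y (η e)))) = 0 := by
      refine Ideal.Quotient.eq_zero_iff_mem.2 (Ideal.mem_sup_right (Ideal.mem_map_of_mem _ ?_))
      change z₀ (theta η δ _) = 0
      rw [map_sub, map_sub, AlgHom.commutes, AlgHom.commutes, hz₀, zeroPt_theta]
      simp
    rw [map_sub, theta_ι, AlgHom.commutes, map_sub, map_add, AlgHom.commutes] at h1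
    have h2 : d' (η e) = r (pZ δ (η e)) - algebraMap k _ (y (η e)) := rfl
    rw [h2]
    linear_combination h1
  -- the relations
  have hd0 : ∀ c, d' c = 0 := by
    intro c
    have h1 := eval_apply hδ y d' hd' c
    have h2 : ∀ w : C ⊗[k] E, r (qZ δ (jE k C E w)) = - TensorProduct.lift
        ((LinearMap.lsmul k (Z δ ⧸ I) ∘ₗ y.toLinearMap).compl₂ (d' ∘ₗ η)) w := by
      intro w
      induction w with
      | zero => simp
      | add a b ha hb => simp only [map_add, ha, hb]; abel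
      | tmul a e =>
        rw [jE_tmul, qZ_tmul_ι, map_mul, hv, TensorProduct.lift.tmul]
        have h3 : r (pZ δ a) = d' a + algebraMap k _ (y a) := by
          rw [hd'r, map_sub, AlgHom.commutes, sub_add_cancel]
        have h4 := hd'0 a (η e)
        rw [h3]
        change _ = - (y a • d' (η e))
        rw [Algebra.smul_def]
        linear_combination -h4
    have h3 := h2 (δ c)
    rw [h1, qZ_jE_δ, map_zero] at h3
    exact neg_eq_zero.1 h3.symm
  have hfin : r = (Algebra.ofId k (Z δ ⧸ I)).comp z₀ := by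
    refine algHom_ext_Z (fun c => ?_) (fun e => ?_)
    · have h1 := hd0 c
      rw [hd'r, map_sub, AlgHom.commutes, sub_eq_zero] at h1
      rw [h1, AlgHom.comp_apply, hz₀, zeroPt_pZ]
      rfl
    · rw [hv, hd0, neg_zero, AlgHom.comp_apply, hz₀, zeroPt_vZ, map_zero]
  intro a ha
  have h1 : r a = 0 := by
    rw [hfin, AlgHom.comp_apply, show z₀ a = 0 from ha, map_zero]
  exact Ideal.Quotient.eq_zero_iff_mem.1 h1

/-- Surjectivity on cotangent spaces. -/
lemma exists_sub_mem (hδ : ∀ c, mO η (δ c) = D k C c) (y : C →ₐ[k] k) {z : Z δ}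
    (hz : zeroPt δ y z = 0) : ∃ a, zeroPt δ y (theta η δ a) = 0 ∧
      z - theta η δ a ∈ RingHom.ker (zeroPt δ y) ^ 2 := by
  obtain ⟨u, hu, v, hv, rfl⟩ := Submodule.mem_sup.1 (ker_le hδ y hz)
  clear hz
  have key : ∃ a, zeroPt δ y (theta η δ a) = 0 ∧
      v - theta η δ a ∈ RingHom.ker (zeroPt δ y) ^ 2 := by
    refine Submodule.span_induction (p := fun v _ => ∃ a, zeroPt δ y (theta η δ a) = 0 ∧
      v - theta η δ a ∈ RingHom.ker (zeroPt δ y) ^ 2) ?_ ?_ ?_ ?_ hv
    · rintro _ ⟨a, ha, rfl⟩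
      exact ⟨a, ha, by rw [sub_self]; exact zero_mem _⟩
    · exact ⟨0, by simp, by simp⟩
    · rintro v w _ _ ⟨a, ha, ha'⟩ ⟨b, hb, hb'⟩
      refine ⟨a + b, by rw [map_add, map_add, ha, hb, add_zero], ?_⟩
      rw [map_add]
      have := add_mem ha' hb'
      have h1 : v - theta η δ a + (w - theta η δ b) = v + w - (theta η δ a + theta η δ b) := by
        ring
      rwa [h1] at this
    · rintro s v _ ⟨a, ha, ha'⟩
      refine ⟨zeroPt δ y s • a, by rw [map_smul, map_smul, ha, smul_zero], ?_⟩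
      have h1 : s • v - theta η δ (zeroPt δ y s • a) =
          s * (v - theta η δ a) + (s - algebraMap k _ (zeroPt δ y s)) * theta η δ a := by
        rw [smul_eq_mul, map_smul, Algebra.smul_def]
        ring
      rw [h1]
      refine add_mem (Ideal.mul_mem_left _ _ ha') ?_
      rw [pow_two]
      refine Ideal.mul_mem_mul ?_ ha
      rw [RingHom.mem_ker, map_sub, AlgHom.commutes]
      simp
  obtain ⟨a, ha, ha'⟩ := key
  refine ⟨a, ha, ?_⟩
  rw [add_sub_assoc]
  exact add_mem hu ha'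

/-! ### Injectivity on cotangent spaces -/

attribute [local instance] opMod instCentral

variable (η δ) in
/-- The tangent vectors of `Z` at the zero section. -/
noncomputable def tQ (y : C →ₐ[k] k) :
    C ⊗[k] SymmetricAlgebra k E →ₐ[k] TrivSqZeroExt k E :=
  Algebra.TensorProduct.lift
    (mkSq y (evE y ∘ₗ δ.toLinearMap) (fun a b => by
      change evE y (δ (a * b)) = _
      rw [Derivation.leibniz, map_add, evE_smul, evE_smul]
      rfl))
    (SymmetricAlgebra.lift ((TrivSqZeroExt.inrHom k E).restrictScalars k ∘ₗ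
      (LinearMap.id - evE y ∘ₗ δ.toLinearMap ∘ₗ η)))
    (fun _ _ => .all _ _)

lemma tQ_tmul_ι (y : C →ₐ[k] k) (c : C) (e : E) :
    tQ η δ y (c ⊗ₜ SymmetricAlgebra.ι k E e) =
      TrivSqZeroExt.inr (y c • (e - evE y (δ (η e)))) := by
  rw [tQ, Algebra.TensorProduct.lift_tmul, SymmetricAlgebra.lift_ι_apply]
  ext
  · simp [fst_mkSq]
  · simp [fst_mkSq, snd_mkSq]

lemma tQ_jE (y : C →ₐ[k] k) (w : C ⊗[k] E) :
    tQ η δ y (jE k C E w) = TrivSqZeroExt.inr (evE y (w - KK η δ w)) := by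
  induction w with
  | zero => simp
  | add a b ha hb =>
    rw [map_add, map_add, ha, hb, ← TrivSqZeroExt.inr_add, ← map_add, map_add (KK η δ)]
    congr 2
    abel
  | tmul c e =>
    rw [jE_tmul, tQ_tmul_ι, map_sub, KK_tmul, evE_tmul, evE_smul, smul_sub]

/-- The tangent vectors of `Z`. -/
noncomputable def tZ (hδ : ∀ c, mO η (δ c) = D k C c) (y : C →ₐ[k] k) :
    Z δ →ₐ[k] TrivSqZeroExt k E :=
  Ideal.Quotient.liftₐ (JZ δ) (tQ η δ y) (by
    have : JZ δ ≤ RingHom.ker (tQ η δ y) := by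
      rw [JZ, Ideal.span_le]
      rintro _ ⟨c, rfl⟩
      change tQ η δ y (jE k C E (δ c)) = 0
      rw [tQ_jE, KK_apply hδ, sub_self, map_zero, TrivSqZeroExt.inr_zero]
    exact fun a ha => this ha)

lemma tZ_pZ (hδ : ∀ c, mO η (δ c) = D k C c) (y : C →ₐ[k] k) (c : C) :
    tZ hδ y (pZ δ c) = TrivSqZeroExt.inl (y c) + TrivSqZeroExt.inr (evE y (δ c)) := by
  change tQ η δ y (c ⊗ₜ 1) = _
  rw [tQ, Algebra.TensorProduct.lift_tmul, map_one, mul_one]
  ext
  · simp [fst_mkSq]
  · simp [snd_mkSq]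

lemma tZ_vZ (hδ : ∀ c, mO η (δ c) = D k C c) (y : C →ₐ[k] k) (e : E) :
    tZ hδ y (vZ δ e) = TrivSqZeroExt.inr (e - evE y (δ (η e))) := by
  change tQ η δ y (1 ⊗ₜ SymmetricAlgebra.ι k E e) = _
  rw [tQ_tmul_ι, map_one, one_smul]

lemma tZ_theta (hδ : ∀ c, mO η (δ c) = D k C c) (y : C →ₐ[k] k) (e : E) :
    tZ hδ y (theta η δ (SymmetricAlgebra.ι k E e)) =
      TrivSqZeroExt.inl (y (η e)) + TrivSqZeroExt.inr e := by
  rw [theta_ι, map_add, tZ_pZ, tZ_vZ]
  ext <;> simp

lemma fst_tZ (hδ : ∀ c, mO η (δ c) = D k C c) (y : C →ₐ[k] k) (z : Z δ) :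
    (tZ hδ y z).fst = zeroPt δ y z := by
  have : (TrivSqZeroExt.fstHom k k E).comp (tZ hδ y) = zeroPt δ y := by
    refine algHom_ext_Z (fun c => ?_) (fun e => ?_)
    · rw [AlgHom.comp_apply, tZ_pZ, zeroPt_pZ]
      simp
    · rw [AlgHom.comp_apply, tZ_vZ, zeroPt_vZ]
      simp
  exact DFunLike.congr_fun this z

/-- Injectivity on cotangent spaces. -/
lemma mem_sq_of_theta_mem_sq (hδ : ∀ c, mO η (δ c) = D k C c) (y : C →ₐ[k] k)
    {a : SymmetricAlgebra k E} (ha : theta η δ a ∈ RingHom.ker (zeroPt δ y) ^ 2) :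
    a ∈ RingHom.ker ((zeroPt δ y).comp (theta η δ)) ^ 2 := by
  set σ := (zeroPt δ y).comp (theta η δ) with hσ
  have h0 : tZ hδ y (theta η δ a) = 0 := map_eq_zero_of_mem_sq _ _ (fst_tZ hδ y) ha
  let Bq := SymmetricAlgebra k E ⧸ RingHom.ker σ ^ 2
  let m : E →ₗ[k] SymmetricAlgebra k E := SymmetricAlgebra.ι k E -
    (Algebra.ofId k (SymmetricAlgebra k E)).toLinearMap ∘ₗ y.toLinearMap ∘ₗ η
  have hm : ∀ e, σ (m e) = 0 := by
    intro e
    change zeroPt δ y (theta η δ (SymmetricAlgebra.ι k E e - algebraMap k _ (y (η e)))) = 0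
    rw [map_sub, map_sub, AlgHom.commutes, AlgHom.commutes, zeroPt_theta]
    simp
  let mq : E →ₗ[k] Bq := (Ideal.Quotient.mkₐ k (RingHom.ker σ ^ 2)).toLinearMap ∘ₗ m
  have hg : ∀ a b, mq a * mq b = 0 := fun a b => by
      change Ideal.Quotient.mk _ (m a) * Ideal.Quotient.mk _ (m b) = 0
      rw [← map_mul, Ideal.Quotient.eq_zero_iff_mem, pow_two]
      exact Ideal.mul_mem_mul (hm a) (hm b)
  have hfg : ∀ (r : k) (e : E), mq (r • e) = Algebra.ofId k Bq r * mq e := fun r e => by
    rw [map_smul, Algebra.smul_def]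
    rfl
  have hgf : ∀ (r : k) (e : E), mq (MulOpposite.op r • e) = mq e * Algebra.ofId k Bq r :=
    fun r e => by
      rw [mul_comm, ← hfg]
      rfl
  let κ : TrivSqZeroExt k E →ₐ[k] Bq := TrivSqZeroExt.lift (Algebra.ofId k Bq) mq hg hfg hgf
  have hκ : (κ.comp (tZ hδ y)).comp (theta η δ) = Ideal.Quotient.mkₐ k (RingHom.ker σ ^ 2) := by
    refine SymmetricAlgebra.algHom_ext (LinearMap.ext fun e => ?_)
    change κ (tZ hδ y (theta η δ (SymmetricAlgebra.ι k E e))) = Ideal.Quotient.mk _ _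
    rw [tZ_theta, map_add]
    have h1 : κ (TrivSqZeroExt.inl (y (η e))) = algebraMap k _ (y (η e)) := κ.commutes _
    have h2 : κ (TrivSqZeroExt.inr e) = Ideal.Quotient.mk _ (m e) :=
      TrivSqZeroExt.lift_apply_inr _ _ hg hfg hgf e
    rw [h1, h2]
    change Ideal.Quotient.mk _ (algebraMap k _ (y (η e))) + _ = _
    rw [← map_add]
    congr 1
    change algebraMap k _ (y (η e)) + (SymmetricAlgebra.ι k E e - algebraMap k _ (y (η e))) = _
    ring
  have h1 := DFunLike.congr_fun hκ a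
  change κ (tZ hδ y (theta η δ a)) = Ideal.Quotient.mk _ a at h1
  rw [h0, map_zero] at h1
  exact Ideal.Quotient.eq_zero_iff_mem.1 h1.symm

end Main

end K765.NbdEt
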