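import Groth.Agent.Books.PointsAC
import Mathlib.RingTheory.Smooth.Locus
import Mathlib.RingTheory.Smooth.Field
import Mathlib.FieldTheory.Perfect
import Mathlib.RingTheory.FinitePresentation
import Mathlib.RingTheory.Spectrum.Prime.Jacobson

/-!
# Homogeneous varieties are smooth

`smooth_of_transitive`: a domain of finite type over an algebraically closed field whose rational points are permuted
transitively by automorphisms is smooth.
-/

set_option autoImplicit false

universe u v

namespace K765.OrbSm

open Groth.Agent.Books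

variable {k : Type u} [Field k] [IsAlgClosed k]

/-- An integral domain of finite type is smooth on a nonempty basic open set. -/
lemma exists_smooth_basicOpen (C : Type v) [CommRing C] [IsDomain C] [Algebra k C]
    [Algebra.FiniteType k C] :
    ∃ f : C, f ≠ 0 ∧ Algebra.FormallySmooth k (Localization.Away f) := by
  haveI : Algebra.FinitePresentation k C := Algebra.FinitePresentation.of_finiteType.1 inferInstance
  have hgen : (⟨⊥, Ideal.isPrime_bot⟩ : PrimeSpectrum C) ∈ Algebra.smoothLocus k C := by
    have h1 : (⊥ : Ideal C).primeCompl = nonZeroDivisors C := by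
      ext x
      rw [Ideal.mem_primeCompl_iff, Ideal.mem_bot, mem_nonZeroDivisors_iff_ne_zero]
    haveI : IsLocalization (nonZeroDivisors C) (Localization.AtPrime (⊥ : Ideal C)) := by
      rw [← h1]
      infer_instance
    haveI : Algebra.EssFiniteType k (FractionRing C) :=
      Algebra.EssFiniteType.comp k C (FractionRing C)
    haveI : Algebra.FormallySmooth k (FractionRing C) := Algebra.FormallySmooth.of_perfectField
    exact Algebra.FormallySmooth.of_equiv
      ((IsLocalization.algEquiv (nonZeroDivisors C) (FractionRing C)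
        (Localization.AtPrime (⊥ : Ideal C))).restrictScalars k)
  obtain ⟨_, ⟨_, ⟨f, rfl⟩, rfl⟩, hxf, hf⟩ :=
    PrimeSpectrum.isBasis_basic_opens.exists_subset_of_mem_open hgen
      (Algebra.isOpen_smoothLocus (R := k) (A := C))
  refine ⟨f, ?_, Algebra.basicOpen_subset_smoothLocus_iff.1 hf⟩
  rintro rfl
  exact hxf (Ideal.zero_mem _)

/-- Homogeneous varieties are smooth. -/
theorem smooth_of_transitive (C : Type v) [CommRing C] [IsDomain C] [Algebra k C]
    [Algebra.FiniteType k C]
    (h : ∀ x z : C →ₐ[k] k, ∃ σ : C ≃ₐ[k] C, z = x.comp σ.toAlgHom) : Algebra.Smooth k C := by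
  haveI hfp : Algebra.FinitePresentation k C :=
    Algebra.FinitePresentation.of_finiteType.1 inferInstance
  obtain ⟨f, hf0, hf⟩ := exists_smooth_basicOpen (k := k) C
  obtain ⟨x₁, hx₁⟩ : ∃ x₁ : C →ₐ[k] k, x₁ f ≠ 0 := by
    by_contra! hcon
    exact hf0 (PointsAC.isNilpotent_of_forall_point k C f hcon).eq_zero
  have key : ∀ x : C →ₐ[k] k, ∃ g : C, x g ≠ 0 ∧
      (PrimeSpectrum.basicOpen g : Set (PrimeSpectrum C)) ⊆ Algebra.smoothLocus k C := by
    intro x
    obtain ⟨σ, hσ⟩ := h x x₁
    refine ⟨σ f, ?_, ?_⟩
    · have := DFunLike.congr_fun hσ f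
      rw [this] at hx₁
      exact hx₁
    · rw [Algebra.basicOpen_subset_smoothLocus_iff]
      refine Algebra.FormallySmooth.of_equiv (A := Localization.Away f)
        (IsLocalization.algEquivOfAlgEquiv (M := Submonoid.powers f) (T := Submonoid.powers (σ f))
          (Localization.Away f) (Localization.Away (σ f)) σ ?_)
      rw [Submonoid.map_powers]
  have huniv : Algebra.smoothLocus k C = Set.univ := by
    by_contra hne
    obtain ⟨p, hp⟩ := (Set.ne_univ_iff_exists_notMem _).1 hne
    obtain ⟨M, hM, hpM⟩ := Ideal.exists_le_maximal p.asIdeal p.2.ne_top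
    obtain ⟨x, hx⟩ := PointsAC.exists_point_of_isMaximal k C M
    obtain ⟨g, hg, hgs⟩ := key x
    refine hp (hgs ?_)
    intro hgp
    have : g ∈ RingHom.ker x := by rw [hx]; exact hpM hgp
    exact hg this
  rw [Algebra.smoothLocus_eq_univ_iff] at huniv
  exact ⟨huniv, hfp⟩

end K765.OrbSm
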