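import Groth.Agent.GLin.K765.NbdEq
import Groth.Agent.BBDec.K978.EtaleSection
import Groth.Agent.S2091
import Groth.Agent.S0558
import Groth.Agent.CurvesC.RegNormal

/-!
# The tubular neighbourhood: étale along the zero section, normal and reduced

* `isEtaleAt_theta`: `Sym E → Z δ` is étale at the primes above the zero section;
* `isRegular_Z`, `isReduced_Z`, `isDomain_loc`, `isIntegrallyClosed_loc`.
-/

set_option autoImplicit false
set_option linter.unusedSectionVars false

universe u v w w' w''

open TensorProduct HopfRep GLin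

namespace K765.Slice1

open K765.Basic K765.EqDer K765.Nbd K765.NbdEt K765.Gens KaehlerDifferential

section Main

variable {k : Type u} [Field k] {C : Type u} [CommRing C] [Algebra k C]
variable {E : Type u} [AddCommGroup E] [Module k E] {η : E →ₗ[k] C}
variable {δ : Derivation k C (C ⊗[k] E)}

instance finiteType_Z [Module.Finite k E] [Algebra.FiniteType k C] : Algebra.FiniteType k (Z δ) := by
  haveI : Algebra.FiniteType k (C ⊗[k] SymmetricAlgebra k E) :=
    Algebra.FiniteType.trans (S := C) inferInstance inferInstance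
  exact Algebra.FiniteType.of_surjective (qZ δ) (qZ_surjective δ)

/-- The structure of an algebra over `Sym E` given by `theta`. -/
@[reducible] noncomputable def algTheta (η : E →ₗ[k] C) (δ : Derivation k C (C ⊗[k] E)) :
    Algebra (SymmetricAlgebra k E) (Z δ) := (theta η δ).toRingHom.toAlgebra

lemma isScalarTower_theta : letI := algTheta η δ
    IsScalarTower k (SymmetricAlgebra k E) (Z δ) :=
  letI := algTheta η δ
  IsScalarTower.of_algebraMap_eq fun a => ((theta η δ).commutes a).symm

lemma isSmoothAt_Z [Module.Finite k E] [Algebra.FormallySmooth k C]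
    (hδ : ∀ c, mO η (δ c) = D k C c) (P : Ideal (Z δ)) [P.IsPrime] : Algebra.IsSmoothAt k P := by
  haveI := formallySmooth_Z hδ
  haveI : Algebra.FormallySmooth (Z δ) (Localization.AtPrime P) :=
    Algebra.FormallySmooth.of_isLocalization P.primeCompl
  exact Algebra.FormallySmooth.comp k (Z δ) (Localization.AtPrime P)

theorem isEtaleAt_theta [Module.Finite k E] [Algebra.FiniteType k C] [Algebra.FormallySmooth k C]
    (hδ : ∀ c, mO η (δ c) = D k C c) (y : C →ₐ[k] k) (P : Ideal (Z δ)) [P.IsPrime]
    (hP : RingHom.ker (zeroPt δ y) ≤ P) :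
    letI := algTheta η δ
    Algebra.IsEtaleAt (SymmetricAlgebra k E) P := by
  letI := algTheta η δ
  haveI := isScalarTower_theta (η := η) (δ := δ)
  haveI := isSmoothAt_Z hδ P
  have hto : IsScalarTower.toAlgHom k (SymmetricAlgebra k E) (Z δ) = theta η δ := rfl
  refine K978.EtaleSection.isEtaleAt k (Z δ) (SymmetricAlgebra k E) (zeroPt δ y)
    ((zeroPt δ y).comp (theta η δ)) (fun _ ha => ha) ⟨?_, ?_⟩ P hP
  · rw [injective_iff_map_eq_zero]
    intro a ha
    obtain ⟨⟨a, ha'⟩, rfl⟩ := Ideal.toCotangent_surjective _ a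
    have h1 := (Ideal.mapCotangent_toCotangent (RingHom.ker ((zeroPt δ y).comp (theta η δ)))
      (RingHom.ker (zeroPt δ y)) (theta η δ) (fun _ ha => ha) ⟨a, ha'⟩).symm.trans ha
    rw [Ideal.toCotangent_eq_zero] at h1
    rw [Ideal.toCotangent_eq_zero]
    exact mem_sq_of_theta_mem_sq hδ y h1
  · intro b
    obtain ⟨⟨b, hb⟩, rfl⟩ := Ideal.toCotangent_surjective _ b
    obtain ⟨a, ha, hab⟩ := exists_sub_mem hδ y hb
    refine ⟨Ideal.toCotangent _ ⟨a, ha⟩, ?_⟩
    refine (Ideal.mapCotangent_toCotangent (RingHom.ker ((zeroPt δ y).comp (theta η δ)))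
      (RingHom.ker (zeroPt δ y)) (theta η δ) (fun _ ha => ha) ⟨a, ha⟩).trans ?_
    rw [Ideal.toCotangent_eq]
    have := neg_mem hab
    rw [neg_sub] at this
    exact this

end Main

section Reg

variable {k : Type u} [Field k] [CharZero k] {C : Type u} [CommRing C] [Algebra k C]
  [Algebra.FiniteType k C] [Algebra.FormallySmooth k C]
variable {E : Type u} [AddCommGroup E] [Module k E] [Module.Finite k E] {η : E →ₗ[k] C}
variable {δ : Derivation k C (C ⊗[k] E)} (hδ : ∀ c, mO η (δ c) = D k C c)

include hδ

lemma isRegular_Z (P : Ideal (Z δ)) [P.IsPrime] : IsRegularLocalRing (Localization.AtPrime P) :=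
  (Groth.Agent.S2091.result P).1 (isSmoothAt_Z hδ P)

lemma isDomain_loc (P : Ideal (Z δ)) [P.IsPrime] : IsDomain (Localization.AtPrime P) := by
  haveI := isRegular_Z hδ P
  exact Groth.Agent.S0558.result _

lemma isIntegrallyClosed_loc (P : Ideal (Z δ)) [P.IsPrime] :
    IsIntegrallyClosed (Localization.AtPrime P) := by
  haveI := isRegular_Z hδ P
  exact Groth.Agent.CurvesC.RegNormal.isIntegrallyClosed _

lemma isReduced_Z : IsReduced (Z δ) := by
  refine ⟨fun z hz => ?_⟩
  refine eq_zero_of_localization z fun P hP => ?_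
  haveI := isDomain_loc hδ P
  exact (hz.map (algebraMap (Z δ) (Localization.AtPrime P))).eq_zero

end Reg

end K765.Slice1
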