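import Groth.Agent.GLin.K765.OrbSm
import Groth.Agent.GLin.K765.Closed
import Groth.Agent.GLin.K765.Gens
import Groth.Agent.GLin.K765.Tr

/-!
# The coordinate ring of a closed orbit
-/

set_option autoImplicit false
set_option linter.unusedSectionVars false

universe u v w w' w''

open TensorProduct HopfRep GLin

namespace K765.Slice3

open Groth.Agent.Books Groth.Agent.Books.ComodBasic Groth.Agent.Books.ComodHom
open K765.Basic K765.Tr K765.Gens K765.SubAlg K701.Orbit K701.Orbit2

variable {k : Type u} [Field k] [IsAlgClosed k] {A : Type v} [CommRing A] [IsDomain A]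
  [HopfAlgebra k A] [Algebra.FiniteType k A]
variable {S : Type w} [CommRing S] [Algebra k S] [Algebra.FiniteType k S] [Comod k A S]
  [IsCoactAlg k A S]

/-- The coordinate ring of a closed orbit. -/
theorem exists_orbit_algebra (y : S →ₐ[k] k) (hy : IsClosedOrbit k A y) :
    ∃ (C : Type w) (_ : CommRing C) (_ : Algebra k C) (_ : Comod k A C) (_ : IsCoactAlg k A C)
      (_ : IsDomain C) (_ : Algebra.FiniteType k C) (π : S →ₐ[k] C) (y₀ : C →ₐ[k] k),
      IsEquiv A π ∧ Function.Surjective π ∧ y₀.comp π = y ∧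
      (∀ z : C →ₐ[k] k, ∃ g : A →ₐ[k] k, z = actPt k g y₀) ∧ Algebra.Smooth k C := by
  set I : Ideal S := RingHom.ker (orbitHom k A y) with hI
  let π : S →ₐ[k] S ⧸ I := Ideal.Quotient.mkₐ k I
  have hπ : Function.Surjective π := Ideal.Quotient.mkₐ_surjective k I
  have hker : RingHom.ker π = I := Ideal.Quotient.mkₐ_ker k I
  have hsub : IsSubcomod (k := k) (A := A) ((RingHom.ker π).restrictScalars k) := by
    rw [hker]
    exact K690.Orbits.isSubcomod_ker_orbitHom y
  letI cC : Comod k A (S ⧸ I) := comodSurj π hπ hsub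
  haveI aC : IsCoactAlg k A (S ⧸ I) := isCoactAlg_surj π hπ hsub
  have eπ : IsEquiv A π := isEquiv_surj π hπ hsub
  haveI hIp : I.IsPrime := RingHom.ker_isPrime _
  haveI hft : Algebra.FiniteType k (S ⧸ I) := Algebra.FiniteType.of_surjective π hπ
  let y₀ : S ⧸ I →ₐ[k] k := Ideal.Quotient.liftₐ I y (fun a ha => by
    exact ker_orbitHom_le_ker (A := A) y ha)
  have hy₀ : y₀.comp π = y := AlgHom.ext fun s => rfl
  have htrans : ∀ z : S ⧸ I →ₐ[k] k, ∃ g : A →ₐ[k] k, z = actPt k g y₀ := by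
    intro z
    obtain ⟨g, hg⟩ := K690.Orbits.exists_actPt_of_ker_le (z := z.comp π) hy (by
      intro a ha
      have h1 : π a = 0 := by
        rw [← RingHom.mem_ker, hker]
        exact ha
      change z (π a) = 0
      rw [h1, map_zero])
    refine ⟨g, ?_⟩
    rw [← hy₀, actPt_comp eπ] at hg
    refine AlgHom.ext fun s => ?_
    obtain ⟨s, rfl⟩ := hπ s
    exact DFunLike.congr_fun hg s
  refine ⟨S ⧸ I, inferInstance, inferInstance, cC, aC, inferInstance, hft, π, y₀, eπ, hπ, hy₀,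
    htrans, ?_⟩
  refine OrbSm.smooth_of_transitive (S ⧸ I) fun x z => ?_
  obtain ⟨g, hg⟩ := htrans x
  obtain ⟨h, hh⟩ := htrans z
  -- `x = g y₀`, `z = h y₀`
  refine ⟨(trEquiv (S ⧸ I) (WithConv.toConv h)).trans
    (trEquiv (S ⧸ I) (WithConv.toConv g)).symm, ?_⟩
  have h1 : x.comp (tr (S ⧸ I) (inv g)) = y₀ := by
    rw [comp_tr, hg, actPt_inv]
  refine AlgHom.ext fun f => ?_
  change z f = x (tr (S ⧸ I) (inv g) (tr (S ⧸ I) h f))
  rw [← AlgHom.comp_apply x, h1, point_tr, hh]

end K765.Slice3
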