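import Groth.Agent.GLin.K765.Slice1
import Groth.Agent.GLin.K765.Slice2
import Groth.Agent.GLin.K765.Slice3

/-!
# The slice theorem for representations: stabilizers near a closed orbit
-/

set_option autoImplicit false
set_option linter.unusedSectionVars false

universe u v w w' w''

open TensorProduct HopfRep GLin

namespace K765.Slice4

open Groth.Agent.Books Groth.Agent.Books.ComodBasic Groth.Agent.Books.ComodHom
open K765.Basic K765.Tr K765.Gens K765.SubAlg K765.Build K765.Haar K765.EqDer K765.Nbd K765.NbdEt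
open K765.NbdEq K765.Slice1 K765.Slice2 K765.Slice3

lemma adjoin_range_ι (k : Type u) [Field k] (E : Type u) [AddCommGroup E] [Module k E] :
    Algebra.adjoin k (Set.range (SymmetricAlgebra.ι k E)) = ⊤ := by
  rw [eq_top_iff]
  rintro x -
  induction x using SymmetricAlgebra.induction with
  | algebraMap r => exact Subalgebra.algebraMap_mem _ r
  | ι e => exact Algebra.subset_adjoin ⟨e, rfl⟩
  | mul a b ha hb => exact mul_mem ha hb
  | add a b ha hb => exact add_mem ha hb

theorem exists_invariant_sym (k : Type u) [Field k] [IsAlgClosed k] [CharZero k]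
    (A : Type u) [CommRing A] [IsDomain A] [HopfAlgebra k A] [Algebra.FiniteType k A]
    (hG : HopfRep.IsLinearlyReductive k A)
    (E : Type u) [AddCommGroup E] [Module k E] [Module.Finite k E] [Comod k A E]
    (y : SymmetricAlgebra k E →ₐ[k] k)
    (hy : letI := symComod k A E; haveI := isCoactAlg_sym k A E; IsClosedOrbit k A y) :
    letI := symComod k A E
    haveI := isCoactAlg_sym k A E
    ∃ F ∈ invariants k A (SymmetricAlgebra k E), y F ≠ 0 ∧
      ∀ y' : SymmetricAlgebra k E →ₐ[k] k, y' F ≠ 0 → ∃ g : A →ₐ[k] k, ∀ h : A →ₐ[k] k,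
        actPt k h y' = y' → actPt k h (actPt k g y) = actPt k g y := by
  letI cS := symComod k A E
  haveI aS := isCoactAlg_sym k A E
  obtain ⟨C, _, _, cC, aC, _, hft, π, y₀, eπ, hπ, hy₀, htr, hsm⟩ :=
    exists_orbit_algebra (A := A) y hy
  haveI : Algebra.FormallySmooth k C := hsm.1
  let η : E →ₗ[k] C := π.toLinearMap ∘ₗ SymmetricAlgebra.ι k E
  have hη : IsComodHom k A η := ((isEquiv_iff _).1 eπ).comp (isComodHom_ι E)
  have hgen : Algebra.adjoin k (Set.range η) = ⊤ := by
    have h1 : Set.range η = π '' Set.range (SymmetricAlgebra.ι k E) := by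
      rw [← Set.range_comp]
      rfl
    rw [h1, ← AlgHom.map_adjoin, adjoin_range_ι, Algebra.map_top,
      AlgHom.range_eq_top]
    exact hπ
  obtain ⟨δ, heq, hδ⟩ := exists_equivariant_derivation hG η hη hgen
  letI cZ' := cZ heq
  haveI aZ' := aZ heq
  haveI := isReduced_Z hδ
  have eθ : IsEquiv A (theta η δ) := isEquiv_theta heq hη
  have ez : (zeroPt δ y₀).comp (theta η δ) = y := by
    refine SymmetricAlgebra.algHom_ext (LinearMap.ext fun e => ?_)
    change zeroPt δ y₀ (theta η δ (SymmetricAlgebra.ι k E e)) = y (SymmetricAlgebra.ι k E e)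
    rw [zeroPt_theta, ← hy₀]
    rfl
  have hfix : ∀ g : A →ₐ[k] k, ∀ z : C →ₐ[k] k, actPt k g (z.comp π) = z.comp π →
      actPt k g z = z := by
    intro g z hg
    rw [actPt_comp eπ] at hg
    refine AlgHom.ext fun s => ?_
    obtain ⟨s, rfl⟩ := hπ s
    exact DFunLike.congr_fun hg s
  obtain ⟨F, hF, hyF, hmain⟩ := exists_lift k A hG (SymmetricAlgebra k E) (Z δ) (theta η δ) eθ
    (zeroPt δ y₀) (fun P _ => isDomain_loc hδ P) (fun P _ => isIntegrallyClosed_loc hδ P)
    (fun P _ hP => isEtaleAt_theta hδ y₀ P hP) (by rw [ez]; exact hy) (by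
      intro g hg
      rw [ez, ← hy₀] at hg
      rw [zeroPt_eq, actPt_comp (isEquiv_zeroSec heq), hfix g y₀ hg])
  refine ⟨F, hF, ?_, ?_⟩
  · rw [← ez]
    exact hyF
  · intro y' hy'
    obtain ⟨z', hz', hst⟩ := hmain y' hy'
    obtain ⟨g, hg⟩ := htr (z'.comp (pZ δ))
    refine ⟨g, fun h hh => ?_⟩
    have h1 := hst h hh
    rw [← hy₀, actPt_comp eπ, actPt_comp eπ, ← hg, actPt_comp (isEquiv_pZ heq), h1]

end K765.Slice4
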