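import Groth.Agent.GLin.K765.Tr
import Groth.Agent.GLin.K764.StabIdeal

/-!
# The stabiliser of a rational point

* `isHopfIdeal_stabIdeal`: the stabiliser ideal is a Hopf ideal;
* `isReduced_quotient_stabIdeal`: it is a radical ideal in characteristic zero;
* `mem_zeroLocus_stabIdeal_iff`: a rational point kills the stabiliser ideal iff it fixes the point;
* `stabIdeal_le_iff`: comparison of stabiliser ideals by rational points.
-/

set_option autoImplicit false
set_option linter.unusedSectionVars false

universe u v w

open TensorProduct HopfRep GLin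

namespace K765.StabPt

open Groth.Agent.Books Groth.Agent.Books.ComodBasic Groth.Agent.Books.ComodHom
open K701.Orbit K765.Basic K765.Tr

section Hopf

variable {k : Type u} {A : Type v} [Field k] [CommRing A] [HopfAlgebra k A]
variable {R : Type w} [CommRing R] [Algebra k R] [Comod k A R] [IsCoactAlg k A R]

variable (k A) in
lemma stabIdeal_eq_span (x : R →ₐ[k] k) : stabIdeal k A x =
    Ideal.span (Set.range fun f : R => orbitHom k A x f - algebraMap k A (x f)) := by
  refine le_antisymm ?_ ?_
  · rw [stabIdeal, Ideal.map_le_iff_le_comap]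
    intro f hf
    have hf' : x f = 0 := hf
    refine Ideal.subset_span ⟨f, ?_⟩
    change orbitHom k A x f - algebraMap k A (x f) = orbitHom k A x f
    rw [hf', map_zero, sub_zero]
  · rw [Ideal.span_le]
    rintro _ ⟨f, rfl⟩
    have h1 : f - algebraMap k R (x f) ∈ RingHom.ker x := by
      rw [RingHom.mem_ker, map_sub, AlgHom.commutes]
      simp
    have h2 : orbitHom k A x (f - algebraMap k R (x f)) ∈ stabIdeal k A x :=
      Ideal.mem_map_of_mem _ h1
    rw [map_sub, AlgHom.commutes] at h2
    exact h2

lemma sub_mem_stabIdeal (x : R →ₐ[k] k) (f : R) :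
    orbitHom k A x f - algebraMap k A (x f) ∈ stabIdeal k A x := by
  rw [stabIdeal_eq_span]
  exact Ideal.subset_span ⟨f, rfl⟩

lemma comul_orbitHom (x : R →ₐ[k] k) (f : R) :
    CoalgebraStruct.comul (R := k) (orbitHom k A x f) =
      (orbitHom k A x).toLinearMap.rTensor A (Comod.coact (k := k) (A := A) f) := by
  have h := K690.Orbits.isComodHom_orbitHom (k := k) (A := A) x f
  exact h

/-- The stabiliser ideal of a rational point is a Hopf ideal. -/
theorem isHopfIdeal_stabIdeal (x : R →ₐ[k] k) : (stabIdeal k A x).IsHopfIdeal k := by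
  have hq : ∀ f : R, Ideal.Quotient.mkₐ k (stabIdeal k A x) (orbitHom k A x f) =
      algebraMap k _ (x f) := by
    intro f
    have h1 := sub_mem_stabIdeal (A := A) x f
    rw [← Ideal.Quotient.eq_zero_iff_mem, map_sub, sub_eq_zero] at h1
    exact h1
  have hco : ((stabIdeal k A x).restrictScalars k).IsCoideal := by
    refine K764.StabIdeal.isCoideal_of _ (fun a ha => ?_) (fun a ha => ?_)
    · have : stabIdeal k A x ≤ RingHom.ker (Bialgebra.counitAlgHom k A) := by
        rw [stabIdeal_eq_span, Ideal.span_le]
        rintro _ ⟨f, rfl⟩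
        change Bialgebra.counitAlgHom k A _ = 0
        rw [map_sub, AlgHom.commutes]
        have := K690.Orbits.counit_orbitHom (k := k) (A := A) x f
        rw [Bialgebra.counitAlgHom_apply, this]
        simp
      exact this ha
    · set q := Ideal.Quotient.mkₐ k (stabIdeal k A x) with hqdef
      have : stabIdeal k A x ≤ RingHom.ker ((Algebra.TensorProduct.map q q).comp
          (Bialgebra.comulAlgHom k A)) := by
        conv_lhs => rw [stabIdeal_eq_span]
        rw [Ideal.span_le]
        rintro _ ⟨f, rfl⟩
        change Algebra.TensorProduct.map q q (Bialgebra.comulAlgHom k A _) = 0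
        rw [map_sub, map_sub, AlgHom.commutes, AlgHom.commutes, Bialgebra.comulAlgHom_apply,
          comul_orbitHom, sub_eq_zero]
        have h1 : ∀ z : R ⊗[k] A, Algebra.TensorProduct.map q q
            ((orbitHom k A x).toLinearMap.rTensor A z) =
            (1 : A ⧸ stabIdeal k A x) ⊗ₜ[k] q (TensorProduct.lid k A (x.toLinearMap.rTensor A z)) := by
          intro z
          induction z with
          | zero => simp
          | add a b ha hb => simp only [map_add, ha, hb, TensorProduct.tmul_add]
          | tmul r a =>
            rw [LinearMap.rTensor_tmul, Algebra.TensorProduct.map_tmul, AlgHom.toLinearMap_apply,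
              hq, LinearMap.rTensor_tmul, TensorProduct.lid_tmul, map_smul,
              Algebra.algebraMap_eq_smul_one, TensorProduct.smul_tmul]
            rfl
        have h2 : TensorProduct.lid k A (x.toLinearMap.rTensor A
            (Comod.coact (k := k) (A := A) f)) = orbitHom k A x f :=
          (K690.Orbits.orbitHom_apply (k := k) (A := A) x f).symm
        rw [h1, h2, hq, Algebra.TensorProduct.algebraMap_apply, Algebra.algebraMap_eq_smul_one,
          TensorProduct.smul_tmul]
      exact this ha
  refine { toIsCoideal := hco, antipode_mem := ?_ }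
  intro a ha
  have hle : stabIdeal k A x ≤ (stabIdeal k A x).comap (HopfAlgebra.antipodeAlgHom k A) := by
    conv_lhs => rw [stabIdeal_eq_span]
    rw [Ideal.span_le]
    rintro _ ⟨f, rfl⟩
    rw [SetLike.mem_coe, Ideal.mem_comap, ← Ideal.Quotient.eq_zero_iff_mem, map_sub,
      AlgHom.commutes, map_sub, sub_eq_zero]
    -- `Σ θ(f₀) S(f₁) = x(f)`
    have h1 := HopfAlgebra.mul_antipode_lTensor_comul_apply (R := k) (orbitHom k A x f)
    rw [comul_orbitHom] at h1
    have hcount : CoalgebraStruct.counit (R := k) (orbitHom k A x f) = x f :=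
      K690.Orbits.counit_orbitHom (k := k) (A := A) x f
    rw [hcount] at h1
    have h2 : ∀ z : R ⊗[k] A, Ideal.Quotient.mk (stabIdeal k A x)
        (LinearMap.mul' k A (LinearMap.lTensor A (HopfAlgebraStruct.antipode k)
          ((orbitHom k A x).toLinearMap.rTensor A z))) =
        Ideal.Quotient.mk (stabIdeal k A x) (HopfAlgebra.antipodeAlgHom k A
          (TensorProduct.lid k A (x.toLinearMap.rTensor A z))) := by
      intro z
      induction z with
      | zero => simp
      | add a b ha hb => simp only [map_add, ha, hb]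
      | tmul r a =>
        have h3 : Ideal.Quotient.mk (stabIdeal k A x) (orbitHom k A x r) =
            Ideal.Quotient.mk (stabIdeal k A x) (algebraMap k A (x r)) := hq r
        rw [LinearMap.rTensor_tmul, LinearMap.lTensor_tmul, LinearMap.mul'_apply,
          LinearMap.rTensor_tmul, TensorProduct.lid_tmul, map_smul, AlgHom.toLinearMap_apply,
          AlgHom.toLinearMap_apply, map_mul, h3, ← map_mul, Algebra.smul_def]
        rfl
    have h4 : TensorProduct.lid k A (x.toLinearMap.rTensor A
        (Comod.coact (k := k) (A := A) f)) = orbitHom k A x f :=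
      (K690.Orbits.orbitHom_apply (k := k) (A := A) x f).symm
    rw [← h4, ← h2, h1]
  exact hle ha

end Hopf

section Points

variable {k : Type u} [Field k] {A : Type v} [CommRing A] [HopfAlgebra k A]
variable {R : Type w} [CommRing R] [Algebra k R] [Comod k A R] [IsCoactAlg k A R]

lemma stabIdeal_le_ker_iff (x : R →ₐ[k] k) (g : A →ₐ[k] k) :
    stabIdeal k A x ≤ RingHom.ker g ↔ actPt k g x = x := by
  rw [stabIdeal_eq_span, Ideal.span_le]
  constructor
  · intro h
    refine AlgHom.ext fun f => ?_
    have h1 : g (orbitHom k A x f - algebraMap k A (x f)) = 0 := h ⟨f, rfl⟩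
    rw [map_sub, AlgHom.commutes, sub_eq_zero] at h1
    exact h1
  · rintro h _ ⟨f, rfl⟩
    change g (orbitHom k A x f - algebraMap k A (x f)) = 0
    have h1 := DFunLike.congr_fun h f
    rw [map_sub, AlgHom.commutes, sub_eq_zero]
    exact h1

end Points

section CharZero

variable {k : Type u} [Field k] [IsAlgClosed k] [CharZero k] {A : Type u} [CommRing A]
  [HopfAlgebra k A] [Algebra.FiniteType k A]
variable {R : Type w} [CommRing R] [Algebra k R] [Comod k A R] [IsCoactAlg k A R]

/-- The stabiliser is reduced. -/
theorem isReduced_quotient_stabIdeal (x : R →ₐ[k] k) : IsReduced (A ⧸ stabIdeal k A x) := by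
  haveI := isHopfIdeal_stabIdeal (A := A) x
  haveI : Algebra.FiniteType k (A ⧸ stabIdeal k A x) :=
    Algebra.FiniteType.of_surjective (Ideal.Quotient.mkₐ k (stabIdeal k A x))
      (Ideal.Quotient.mkₐ_surjective k _)
  exact isReduced_hopf k (A ⧸ stabIdeal k A x)

/-- Elements of the stabiliser ideal are detected by the rational points of the stabiliser. -/
theorem mem_stabIdeal_of_forall (x : R →ₐ[k] k) (a : A)
    (h : ∀ g : A →ₐ[k] k, actPt k g x = x → g a = 0) : a ∈ stabIdeal k A x := by
  haveI := isReduced_quotient_stabIdeal (A := A) x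
  haveI : Algebra.FiniteType k (A ⧸ stabIdeal k A x) :=
    Algebra.FiniteType.of_surjective (Ideal.Quotient.mkₐ k (stabIdeal k A x))
      (Ideal.Quotient.mkₐ_surjective k _)
  rw [← Ideal.Quotient.eq_zero_iff_mem]
  refine PointsAC.eq_zero_of_forall_point k (A ⧸ stabIdeal k A x) _ fun g => ?_
  have h1 : actPt k (g.comp (Ideal.Quotient.mkₐ k (stabIdeal k A x))) x = x := by
    rw [← stabIdeal_le_ker_iff]
    intro b hb
    change g (Ideal.Quotient.mk _ b) = 0
    rw [Ideal.Quotient.eq_zero_iff_mem.2 hb, map_zero]
  exact h _ h1

/-- Comparison of stabiliser ideals by rational points. -/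
theorem stabIdeal_le_iff {R' : Type*} [CommRing R'] [Algebra k R'] [Comod k A R']
    [IsCoactAlg k A R'] (x : R →ₐ[k] k) (x' : R' →ₐ[k] k) :
    stabIdeal k A x ≤ stabIdeal k A x' ↔ ∀ g : A →ₐ[k] k, actPt k g x' = x' → actPt k g x = x := by
  constructor
  · intro h g hg
    rw [← stabIdeal_le_ker_iff] at hg ⊢
    exact h.trans hg
  · intro h a ha
    refine mem_stabIdeal_of_forall x' a fun g hg => ?_
    have := (stabIdeal_le_ker_iff x g).2 (h g hg)
    exact this ha

end CharZero

end K765.StabPt
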