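import Groth.Agent.GLin.K765.SubAlg
import Groth.Agent.Flat2G.FinModel

/-!
# The equivariant form of Zariski's main theorem

`exists_stable_finite`: for a quasi-finite equivariant `S → R` (`A` a reduced Hopf algebra of finite type over an
algebraically closed field) there is a stable subalgebra `B` of `R`, finite over `S`, with `B[1/g] = R[1/g]` for
elements `g ∈ B` generating the unit ideal of `R`.
-/

set_option autoImplicit false
set_option linter.unusedSectionVars false

universe u v w w'

open TensorProduct HopfRep GLin

namespace K765.ZMT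

open Groth.Agent.Books Groth.Agent.Books.ComodBasic Groth.Agent.Books.ComodHom
open K765.Basic K765.Tr K765.SubAlg

variable {k : Type u} {A : Type v} [Field k] [IsAlgClosed k] [CommRing A] [HopfAlgebra k A]
  [Algebra.FiniteType k A] [IsReduced A]
variable {S : Type w} [CommRing S] [Algebra k S] [Comod k A S] [IsCoactAlg k A S]
variable {R : Type w'} [CommRing R] [Algebra k R] [Comod k A R] [IsCoactAlg k A R]
variable [Algebra S R] [IsScalarTower k S R]

/-- The integral closure is a subcomodule. -/
lemma isSubcomod_integralClosure (he : IsEquiv A (IsScalarTower.toAlgHom k S R)) :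
    IsSubcomod (k := k) (A := A)
      ((Subalgebra.toSubmodule (integralClosure S R)).restrictScalars k) := by
  refine isSubcomod_of_tr _ fun g f hf => ?_
  have hf' : IsIntegral S f := hf
  have : IsIntegral S (tr R g f) := by
    refine hf'.map_of_comp_eq (tr S g).toRingHom (tr R g).toRingHom ?_
    ext s
    exact map_tr he g s
  exact this

theorem exists_stable_finite [Algebra.FiniteType k R] [Algebra.QuasiFinite S R]
    (he : IsEquiv A (IsScalarTower.toAlgHom k S R)) :
    ∃ B : Subalgebra S R, Module.Finite S B ∧
      IsSubcomod (k := k) (A := A) ((Subalgebra.toSubmodule B).restrictScalars k) ∧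
      ∀ q : Ideal R, q.IsPrime → ∃ g ∈ B, g ∉ q ∧ ∀ x : R, ∃ n : ℕ, g ^ n * x ∈ B := by
  classical
  haveI : Algebra.FiniteType S R := Algebra.FiniteType.of_restrictScalars_finiteType k S R
  obtain ⟨B₀, hB₀, hZ⟩ := Groth.Agent.Hensel.PairEtale.exists_finite_subalgebra (R := S) (S := R)
  obtain ⟨T, hT⟩ := Module.Finite.iff_fg.mp
    (show Module.Finite S (Subalgebra.toSubmodule B₀) from hB₀)
  obtain ⟨E, hE, hEfin, hTE⟩ : ∃ E : Submodule k R, IsSubcomod (k := k) (A := A) E ∧
      Module.Finite k E ∧ (∀ t ∈ T, t ∈ E) ∧ E ≤
        (Subalgebra.toSubmodule (integralClosure S R)).restrictScalars k := by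
    refine ⟨⨆ v ∈ T, gen k A v, IsSubcomod.iSup fun v => IsSubcomod.iSup fun _ => isSubcomod_gen v,
      ?_, ?_, ?_⟩
    · rw [← Finset.sup_eq_iSup]
      exact Submodule.finiteDimensional_finset_sup T (fun v => gen k A v)
    · intro v hv
      exact Submodule.mem_iSup_of_mem v (Submodule.mem_iSup_of_mem hv (self_mem_gen v))
    · refine iSup₂_le fun t ht => gen_le (isSubcomod_integralClosure he) ?_
      have h1 : t ∈ Subalgebra.toSubmodule B₀ := by
        rw [← hT]
        exact Submodule.subset_span ht
      have h2 : IsIntegral S (⟨t, h1⟩ : B₀) := Algebra.IsIntegral.isIntegral _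
      exact h2.map B₀.val
  obtain ⟨hTE, hEint⟩ := hTE
  let B : Subalgebra S R := Algebra.adjoin S (E : Set R)
  have hBfin : Module.Finite S B := by
    obtain ⟨s, hs⟩ := Module.Finite.iff_fg.mp hEfin
    have hB : B = Algebra.adjoin S (s : Set R) := by
      refine le_antisymm ?_ (Algebra.adjoin_mono ?_)
      · refine Algebra.adjoin_le ?_
        have : E ≤ (Subalgebra.toSubmodule (Algebra.adjoin S (s : Set R))).restrictScalars k := by
          rw [← hs, Submodule.span_le]
          exact Algebra.subset_adjoin
        exact this
      · rw [← hs]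
        exact Submodule.subset_span
    rw [hB]
    refine ⟨(Submodule.fg_top _).mpr (fg_adjoin_of_finite s.finite_toSet fun x hx => ?_)⟩
    exact hEint (by rw [← hs]; exact Submodule.subset_span hx)
  refine ⟨B, hBfin, ?_, fun q hq => ?_⟩
  · have key : ∀ b ∈ B, Comod.coact (k := k) (A := A) b ∈
        (Algebra.TensorProduct.map (B.restrictScalars k).val (AlgHom.id k A)).range := by
      intro b hb
      induction hb using Algebra.adjoin_induction with
      | mem x hx =>
        exact mem_range_map_subtype (W := E) (B := B.restrictScalars k)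
          (fun y hy => Algebra.subset_adjoin hy) (hE x hx)
      | algebraMap s =>
        rw [show (algebraMap S R) s = IsScalarTower.toAlgHom k S R s from rfl, he s]
        generalize Comod.coact (k := k) (A := A) s = z
        induction z with
        | zero => simp
        | tmul a b =>
          exact ⟨(⟨algebraMap S R a, B.algebraMap_mem a⟩ : B.restrictScalars k) ⊗ₜ b, rfl⟩
        | add a b ha hb => rw [map_add]; exact add_mem ha hb
      | add x y _ _ hx hy => rw [map_add]; exact add_mem hx hy
      | mul x y _ _ hx hy => rw [IsCoactAlg.coact_mul]; exact mul_mem hx hy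
    exact (isSubcomod_iff_subalgebra (B.restrictScalars k)).2 key
  · obtain ⟨g, hg, hgq, h⟩ := hZ q hq
    have hle : B₀ ≤ B := by
      intro x hx
      have : x ∈ Submodule.span S (T : Set R) := by rw [hT]; exact hx
      have h2 : Submodule.span S (T : Set R) ≤ Subalgebra.toSubmodule B := by
        rw [Submodule.span_le]
        exact fun t ht => Algebra.subset_adjoin (hTE t ht)
      exact h2 this
    refine ⟨g, hle hg, hgq, fun x => ?_⟩
    obtain ⟨n, hn⟩ := h x
    exact ⟨n, hle hn⟩

end K765.ZMT
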